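import Cfsg.Agent.Lib.Golay.M24

/-!
Orbit certificates for stabilisers of point sets in the group of the length-24 code. Sets are
24-bit masks, permutations are codes with 8 bits per point.
-/

set_option autoImplicit false

namespace CfsgLib.M24Cert

open Cfsg CfsgLib.Golay
open scoped Pointwise

/-- The code `e.1` is a permutation with inverse code `e.2`. -/
noncomputable def okPerm (e : ℕ × ℕ) : Bool :=
  allLt 24 fun j => Nat.blt (app e.1 j) 24 && Nat.blt (app e.2 j) 24 &&
    Nat.beq (app e.2 (app e.1 j)) j && Nat.beq (app e.1 (app e.2 j)) j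

theorem exists_isPermOf {e : ℕ × ℕ} (h : okPerm e = true) :
    ∃ σ : Equiv.Perm GolayPt, IsPermOf σ e.1 := by
  have hj : ∀ p : GolayPt, app e.1 (bit p) < 24 ∧ app e.2 (bit p) < 24 ∧
      app e.2 (app e.1 (bit p)) = bit p ∧ app e.1 (app e.2 (bit p)) = bit p := fun p => by
    have := allLt_spec h _ (bit_lt p)
    simp only [Bool.and_eq_true, Nat.blt_eq, Nat.beq_eq] at this
    exact ⟨this.1.1.1, this.1.1.2, this.1.2, this.2⟩
  refine ⟨⟨fun p => pt (app e.1 (bit p)), fun p => pt (app e.2 (bit p)), fun p => ?_, fun p => ?_⟩, fun p => ?_⟩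
  · show pt (app e.2 (bit (pt (app e.1 (bit p))))) = p
    rw [bit_pt (hj p).1, (hj p).2.2.1, pt_bit]
  · show pt (app e.1 (bit (pt (app e.2 (bit p))))) = p
    rw [bit_pt (hj p).2.1, (hj p).2.2.2, pt_bit]
  · exact (bit_pt (hj p).1).symm

/-- All listed permutations lie in the group and fix the masks in `fixed`. -/
noncomputable def gensOk (fixed : List ℕ) (gens : List (ℕ × ℕ)) : Bool :=
  gens.all fun e => okPerm e && inM24 e.1 && fixed.all fun m => Nat.beq (push e.1 m) m

/-- The elements of `M24` fixing all the masks in `fixed`. -/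
def maskStab (fixed : List ℕ) : Subgroup (Equiv.Perm GolayPt) where
  carrier := {g | g ∈ M24 ∧ ∀ m ∈ fixed, g • toSet m = toSet m}
  one_mem' := ⟨one_mem _, fun m _ => one_smul _ _⟩
  mul_mem' := fun {a b} ha hb => ⟨mul_mem ha.1 hb.1, fun m hm => by
    rw [mul_smul, hb.2 m hm, ha.2 m hm]⟩
  inv_mem' := fun {a} ha => ⟨inv_mem ha.1, fun m hm => by
    rw [inv_smul_eq_iff, ha.2 m hm]⟩

theorem exists_gen {fixed : List ℕ} {gens : List (ℕ × ℕ)} (h : gensOk fixed gens = true)
    {e : ℕ × ℕ} (he : e ∈ gens) : ∃ σ ∈ maskStab fixed, IsPermOf σ e.1 := by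
  simp only [gensOk, List.all_eq_true, Bool.and_eq_true, Nat.beq_eq] at h
  obtain ⟨⟨hok, hin⟩, hfix⟩ := h e he
  obtain ⟨σ, hσ⟩ := exists_isPermOf hok
  exact ⟨σ, ⟨mem_M24_of_inM24 hσ hin, fun m hm => by rw [← toSet_push hσ, hfix m hm]⟩, hσ⟩

/-- A Schreier forest: each entry `(t, i, j)` says that generator `i` maps the `j`-th reached mask
to `t`. -/
noncomputable def forestCheck (gens : List (ℕ × ℕ)) : List ℕ → List (ℕ × ℕ × ℕ) → Bool
  | _, [] => true
  | acc, (t, i, j) :: rest =>
    Nat.blt i gens.length && Nat.blt j acc.length &&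
      Nat.beq (push (gens.getD i (0, 0)).1 (acc.getD j 0)) t && forestCheck gens (acc ++ [t]) rest

/-- The masks reached by a forest. -/
def targets (root : ℕ) (forest : List (ℕ × ℕ × ℕ)) : List ℕ := root :: forest.map Prod.fst

theorem forestCheck_spec {fixed : List ℕ} {gens : List (ℕ × ℕ)} (hg : gensOk fixed gens = true)
    {root : ℕ} : ∀ (forest : List (ℕ × ℕ × ℕ)) (acc : List ℕ),
    (∀ t ∈ acc, ∃ g ∈ maskStab fixed, g • toSet root = toSet t) →
    forestCheck gens acc forest = true →
    ∀ t ∈ acc ++ forest.map Prod.fst, ∃ g ∈ maskStab fixed, g • toSet root = toSet t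
  | [], acc, hacc, _, t, ht => hacc t (by simpa using ht)
  | (t₀, i, j) :: rest, acc, hacc, h, t, ht => by
    simp only [forestCheck, Bool.and_eq_true, Nat.blt_eq, Nat.beq_eq] at h
    obtain ⟨⟨⟨hi, hj⟩, hp⟩, hrest⟩ := h
    rw [List.getD_eq_getElem _ _ hi, List.getD_eq_getElem _ _ hj] at hp
    refine forestCheck_spec hg rest (acc ++ [t₀]) (fun u hu => ?_) hrest t
      (by simpa [List.append_assoc] using ht)
    rcases List.mem_append.1 hu with hu | hu
    · exact hacc u hu
    · rw [List.mem_singleton] at hu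
      subst hu
      obtain ⟨σ, hσ, hσc⟩ := exists_gen hg (List.getElem_mem hi)
      obtain ⟨g, hgm, hge⟩ := hacc _ (List.getElem_mem hj)
      exact ⟨σ * g, mul_mem hσ hgm, by rw [mul_smul, hge, ← toSet_push hσc, hp]⟩

/-- The orbit certificate. -/
noncomputable def orbitCheck (fixed : List ℕ) (gens : List (ℕ × ℕ)) (root : ℕ)
    (forest : List (ℕ × ℕ × ℕ)) : Bool :=
  gensOk fixed gens && forestCheck gens [root] forest

/-- Any two masks reached by a forest differ by an element of the stabiliser. -/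
theorem exists_map_of_orbitCheck {fixed : List ℕ} {gens : List (ℕ × ℕ)} {root : ℕ}
    {forest : List (ℕ × ℕ × ℕ)} (h : orbitCheck fixed gens root forest = true) {t t' : ℕ}
    (ht : t ∈ targets root forest) (ht' : t' ∈ targets root forest) :
    ∃ g ∈ maskStab fixed, g • toSet t = toSet t' := by
  simp only [orbitCheck, Bool.and_eq_true] at h
  have key := forestCheck_spec h.1 forest [root] (fun u hu => ⟨1, one_mem _, by
    rw [List.mem_singleton] at hu; rw [hu, one_smul]⟩) h.2
  obtain ⟨g, hg, hge⟩ := key t (by simpa [targets] using ht)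
  obtain ⟨g', hg', hge'⟩ := key t' (by simpa [targets] using ht')
  exact ⟨g' * g⁻¹, mul_mem hg' (inv_mem hg), by rw [mul_smul, ← hge, inv_smul_smul, hge']⟩

/-! ### Coverage of code words -/

/-- The set of information parts of a list of words, as a mask of 4096 bits. -/
def keys (ts : List ℕ) : ℕ := ts.foldr (fun t acc => Nat.lor (Nat.pow 2 (Nat.land t 4095)) acc) 0

theorem testBit_keys {ts : List ℕ} {x : ℕ} (h : (keys ts).testBit x = true) :
    ∃ t ∈ ts, t &&& 4095 = x := by
  induction ts with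
  | nil => simp [keys] at h
  | cons t ts ih =>
    change (2 ^ (t &&& 4095) ||| keys ts).testBit x = true at h
    rw [Nat.testBit_or, Bool.or_eq_true, Nat.testBit_two_pow, decide_eq_true_eq] at h
    rcases h with h | h
    · exact ⟨t, List.mem_cons_self, h⟩
    · obtain ⟨u, hu, hux⟩ := ih h
      exact ⟨u, List.mem_cons_of_mem _ hu, hux⟩

/-- `K` is the key set of `ts`, and every code word satisfying `cond` is in `ts`. -/
noncomputable def coverCheck (cond : ℕ → Bool) (ts : List ℕ) (K : ℕ) : Bool :=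
  Nat.beq (keys ts) K && ts.all memb && allR (fun x => !cond (comb x) || K.testBit x) 12 0

theorem mem_of_coverCheck {cond : ℕ → Bool} {ts : List ℕ} {K : ℕ} (h : coverCheck cond ts K = true)
    {x : ℕ} (hx : x < 2 ^ 12) (hc : cond (comb x) = true) : comb x ∈ ts := by
  simp only [coverCheck, Bool.and_eq_true, Nat.beq_eq, List.all_eq_true] at h
  obtain ⟨⟨hK, hm⟩, hall⟩ := h
  have := allR_spec hall x (Nat.zero_le _) (by simpa using hx)
  rw [hc, Bool.not_true, Bool.false_or, ← hK] at this
  obtain ⟨t, ht, htx⟩ := testBit_keys this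
  have := hm t ht
  rw [memb, beq_iff_eq, htx] at this
  rwa [this]

/-- The weight-`k` words with property `q` form one orbit of the stabiliser. -/
theorem orbit_words {k : ℕ} {q : ℕ → Bool} {fixed : List ℕ} {gens : List (ℕ × ℕ)} {root K : ℕ}
    {forest : List (ℕ × ℕ × ℕ)} (h : orbitCheck fixed gens root forest = true)
    (hc : coverCheck (fun n => Nat.beq (pc24 n) k && q n) (targets root forest) K = true)
    {P : Finset GolayPt → Prop} (hq : ∀ n < 2 ^ 24, P (toSet n) → q n = true)
    {s s' : Finset GolayPt} (hs : s ∈ wordsOfWeight (golayCode : Set (GolayPt → ZMod 2)) k)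
    (hs' : s' ∈ wordsOfWeight (golayCode : Set (GolayPt → ZMod 2)) k) (hP : P s) (hP' : P s') :
    ∃ g ∈ maskStab fixed, g • s = s' := by
  obtain ⟨x, hx, hxk, rfl⟩ := mem_wordsOfWeight_iff.1 hs
  obtain ⟨y, hy, hyk, rfl⟩ := mem_wordsOfWeight_iff.1 hs'
  refine exists_map_of_orbitCheck h (mem_of_coverCheck hc hx ?_) (mem_of_coverCheck hc hy ?_)
  · simp only [Bool.and_eq_true, Nat.beq_eq, pc24_eq]
    exact ⟨hxk, hq _ (comb_lt hx) hP⟩
  · simp only [Bool.and_eq_true, Nat.beq_eq, pc24_eq]
    exact ⟨hyk, hq _ (comb_lt hy) hP'⟩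

/-! ### Points -/

theorem toSet_two_pow_bit (p : GolayPt) : toSet (2 ^ bit p) = {p} := by
  rw [toSet_two_pow (bit_lt p), pt_bit]

theorem apply_eq_of_fix {fixed : List ℕ} {g : Equiv.Perm GolayPt} (hg : g ∈ maskStab fixed)
    {p : GolayPt} (hp : 2 ^ bit p ∈ fixed) : g p = p := by
  have := hg.2 _ hp
  rwa [toSet_two_pow_bit, Finset.smul_finset_singleton, Finset.singleton_inj] at this

theorem testBit_eq_true_iff {n : ℕ} {p : GolayPt} : n.testBit (bit p) = true ↔ p ∈ toSet n :=
  mem_toSet.symm

/-- Points with property `cond` are all reached. -/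
noncomputable def pointCover (cond : ℕ → Bool) (ts : List ℕ) : Bool :=
  allLt 24 fun j => !cond j || ts.any (Nat.beq (Nat.pow 2 j))

theorem exists_map_point {fixed : List ℕ} {gens : List (ℕ × ℕ)} {root : ℕ}
    {forest : List (ℕ × ℕ × ℕ)} (h : orbitCheck fixed gens root forest = true)
    {cond : ℕ → Bool} (hc : pointCover cond (targets root forest) = true) {a b : GolayPt}
    (ha : cond (bit a) = true) (hb : cond (bit b) = true) :
    ∃ g ∈ maskStab fixed, g a = b := by
  have hmem : ∀ p : GolayPt, cond (bit p) = true → 2 ^ bit p ∈ targets root forest := by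
    intro p hp
    have := allLt_spec hc _ (bit_lt p)
    rw [hp, Bool.not_true, Bool.false_or, List.any_eq_true] at this
    obtain ⟨t, ht, he⟩ := this
    rwa [← Nat.eq_of_beq_eq_true he] at ht
  obtain ⟨g, hg, hge⟩ := exists_map_of_orbitCheck h (hmem a ha) (hmem b hb)
  rw [toSet_two_pow_bit, toSet_two_pow_bit, Finset.smul_finset_singleton, Finset.singleton_inj] at hge
  exact ⟨g, hg, hge⟩

/-! ### Moving configurations -/

theorem smul_mem_wordsOfWeight {g : Equiv.Perm GolayPt} (hg : g ∈ M24) {k : ℕ} {s : Finset GolayPt} :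
    g • s ∈ wordsOfWeight (golayCode : Set (GolayPt → ZMod 2)) k ↔
      s ∈ wordsOfWeight (golayCode : Set (GolayPt → ZMod 2)) k := by
  simp only [wordsOfWeight, Set.mem_ofPred_eq, M24_smul_mem_supports hg, Finset.card_smul_finset]

/-- Counting can be done at the standard configuration. -/
theorem ncard_transport {g : Equiv.Perm GolayPt} (hg : g ∈ M24) {k : ℕ}
    {P P' : Finset GolayPt → Prop} (hP : ∀ s, P (g • s) ↔ P' s) :
    {s | s ∈ wordsOfWeight (golayCode : Set (GolayPt → ZMod 2)) k ∧ P s}.ncard =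
      {s | s ∈ wordsOfWeight (golayCode : Set (GolayPt → ZMod 2)) k ∧ P' s}.ncard := by
  rw [← Set.ncard_image_of_injective {s | s ∈ wordsOfWeight (golayCode : Set (GolayPt → ZMod 2)) k ∧ P' s}
    (MulAction.injective g)]
  congr 1
  ext s
  constructor
  · rintro ⟨h1, h2⟩
    refine ⟨g⁻¹ • s, ⟨(smul_mem_wordsOfWeight (inv_mem hg)).2 h1, ?_⟩, smul_inv_smul g s⟩
    rw [← hP, smul_inv_smul]; exact h2
  · rintro ⟨u, ⟨h1, h2⟩, rfl⟩
    exact ⟨(smul_mem_wordsOfWeight hg).2 h1, (hP u).2 h2⟩

theorem card_smul_inter (g : Equiv.Perm GolayPt) (s t : Finset GolayPt) :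
    (g • s ∩ g • t).card = (s ∩ t).card := by
  rw [← Finset.smul_finset_inter, Finset.card_smul_finset]

theorem apply_mem_smul {g : Equiv.Perm GolayPt} {p : GolayPt} {s : Finset GolayPt} :
    g p ∈ g • s ↔ p ∈ s := Finset.smul_mem_smul_finset_iff g

/-- A list of at most five points can be completed to move the standard octad onto `o`. -/
theorem exists_map_octad_points {o : Finset GolayPt} (ho : o ∈ octads) (xs : List GolayPt)
    (hn : xs.Nodup) (hlen : xs.length ≤ 5) (hsub : ∀ x ∈ xs, x ∈ o) :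
    ∃ g ∈ M24, g • octad0 = o ∧ (base5.take xs.length).map g = xs := by
  obtain ⟨u, hu, huc⟩ : ∃ u : Finset GolayPt, u ⊆ o \ xs.toFinset ∧ u.card = 5 - xs.length := by
    refine Finset.exists_subset_card_eq ?_
    rw [Finset.card_sdiff_of_subset (fun x hx => hsub x (List.mem_toFinset.1 hx)), ho.2,
      List.toFinset_card_of_nodup hn]
    omega
  have hnd : (xs ++ u.toList).Nodup := by
    rw [List.nodup_append]
    refine ⟨hn, u.nodup_toList, fun a ha b hb hab => ?_⟩
    have := (Finset.mem_sdiff.1 (hu (Finset.mem_toList.1 hb))).2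
    exact this (List.mem_toFinset.2 (hab ▸ ha))
  obtain ⟨g, hg, hgm⟩ := exists_map_M24 (xs := base5) (ys := xs ++ u.toList) (by decide) hnd
    (by simp [base5, huc]; omega) (by simp [base5])
  refine ⟨g, hg, ?_, ?_⟩
  · refine octad_eq_of_five ((M24_smul_mem_octads hg).2 octad0_mem) ho ?_
    have hsub' : (xs ++ u.toList).toFinset ⊆ g • octad0 ∩ o := by
      intro p hp
      rw [List.mem_toFinset] at hp
      refine Finset.mem_inter.2 ⟨?_, ?_⟩
      · rw [← hgm] at hp
        obtain ⟨q, hq, rfl⟩ := List.mem_map.1 hp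
        exact apply_mem_smul.2 ((show base5.toFinset ⊆ octad0 by decide +kernel) (List.mem_toFinset.2 hq))
      · rcases List.mem_append.1 hp with h | h
        · exact hsub p h
        · exact (Finset.mem_sdiff.1 (hu (Finset.mem_toList.1 h))).1
    refine le_trans ?_ (Finset.card_le_card hsub')
    rw [List.toFinset_card_of_nodup hnd]
    simp [huc]
    omega
  · rw [List.map_take, hgm, List.take_left]

end CfsgLib.M24Cert
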