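import Cfsg.Agent.Lib.M24Cert.Basic

/-!
Orbits on points of the stabilisers of the standard octad and dodecad.
-/

set_option autoImplicit false

namespace CfsgLib.M24Cert

open CfsgLib.Golay

/-- certificate oct0Out -/
def oct0OutGens : List (ℕ × ℕ) := [(25194914467649866102335189483380669153966572512582042126, 343664399204521500273941118116850146878083703220941690626), (75385268781559308052426857963106772312033422761299678976, 26441544746887373891727478350173357900329581555319378176)]

def oct0OutRoot : ℕ := 16

def oct0OutForest : List (ℕ × ℕ × ℕ) := [(4194304, 0, 0), (65536, 1, 0), (128, 0, 1), (524288, 1, 1), (32768, 0, 2), (2097152, 1, 2),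
  (1048576, 1, 3), (512, 0, 4), (256, 1, 4), (64, 1, 5), (4096, 0, 6), (2048, 0, 9),
  (262144, 1, 10), (8192, 0, 12), (1024, 0, 13)]

theorem oct0Out_orbit : orbitCheck [8536111] oct0OutGens oct0OutRoot oct0OutForest = true := by
  decide +kernel

/-- certificate oct0InOut -/
def oct0InOutGens : List (ℕ × ℕ) := [(565498368285296092150073524444812753360616869251101229841, 565785711119237802193146191146462019193975487599496728066), (565973889674405241242135241433815459622710596596486245891, 565690660892909986161939259821301274850678431994051956241)]

def oct0InOutRoot : ℕ := 16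

def oct0InOutForest : List (ℕ × ℕ × ℕ) := [(1024, 0, 0), (262144, 1, 0), (8192, 1, 1), (4096, 0, 2), (4194304, 1, 2), (128, 1, 3),
  (32768, 1, 4), (65536, 0, 5), (2097152, 1, 5), (524288, 1, 6), (2048, 0, 7), (1048576, 0, 9),
  (64, 1, 10), (256, 0, 11), (512, 0, 13)]

theorem oct0InOut_orbit : orbitCheck [8536111, 8388608] oct0InOutGens oct0InOutRoot oct0InOutForest = true := by
  decide +kernel

/-- certificate dod0In -/
def dod0InGens : List (ℕ × ℕ) := [(466648667320946273414044090286038029634776566274988511751, 491455174586133122987024225487404885786318949630629511951), (172599559552571988047294244647488998813801012389934733056, 26150457351733821942008053734563908933636268772694361856)]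

def dod0InRoot : ℕ := 1

def dod0InForest : List (ℕ × ℕ × ℕ) := [(128, 0, 0), (8, 0, 1), (2, 1, 1), (32768, 1, 2), (262144, 0, 3), (8388608, 1, 3),
  (4096, 1, 4), (4, 0, 5), (32, 1, 5), (524288, 0, 6), (1048576, 0, 7)]

theorem dod0In_orbit : orbitCheck [10260655] dod0InGens dod0InRoot dod0InForest = true := by
  decide +kernel

end CfsgLib.M24Cert
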