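import Cfsg.Agent.Lib.M24Elt.Basic
import Cfsg.Agent.Lib.M24Cert.DataEleven

/-!
Kernel checks for the normalisers of elements of order 11 and 23.
-/

set_option autoImplicit false

namespace CfsgLib.M24Cert

open Cfsg CfsgLib.Golay CfsgLib.Comp CfsgLib.M24Elt

/-- The position of `n` in the orbits of multiplication by two, applied to images `i`, `j` of 1, 5. -/
noncomputable def normFun (k i j n : ℕ) : ℕ :=
  bif Nat.beq n 23 || Nat.beq n 0 then n else
    Nat.rec 0 (fun t ih =>
      bif Nat.beq (2 ^ t % 23) n then 2 ^ (k * t) * i % 23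
      else bif Nat.beq (5 * 2 ^ t % 23) n then 2 ^ (k * t) * j % 23 else ih) 11

theorem code_goods : good trCode = true ∧ good twoCode = true ∧ good invCode = true ∧
    elevenNorm.all good = true ∧ isOne twoCode = false ∧ isOne trCode = false ∧
    isOne (powc twoCode 11) = true ∧ isOne (powc trCode 23) = true ∧
    elevenNorm.length = 55 := by
  decide +kernel

theorem normFun_lt : allLt 11 (fun k => allLt 23 fun i => allLt 23 fun j =>
    PermCode.allLt 24 fun n => Nat.blt (normFun k i j n) 24) = true := by
  decide +kernel

theorem eleven_check : allLt 11 (fun k => allLt 23 fun i => allLt 23 fun j =>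
    !(!Nat.beq k 0 && !Nat.beq i 0 && !Nat.beq j 0 && good (PermCode.build 24 (normFun k i j))) ||
      elevenNorm.any (eqc (PermCode.build 24 (normFun k i j)))) = true := by
  decide +kernel

theorem orbit_points : allLt 23 (fun n => Nat.beq n 0 ||
    !allLt 11 fun t => !(Nat.beq (2 ^ t % 23) n || Nat.beq (5 * 2 ^ t % 23) n)) = true := by
  decide +kernel

/-- An affine map of the first 23 positions. -/
noncomputable def affFun (k b n : ℕ) : ℕ := bif Nat.beq n 23 then 23 else (k * n + b) % 23

theorem affine_check : allLt 23 (fun k => allLt 23 fun b =>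
    !good (PermCode.build 24 (affFun k b)) || Nat.beq (k ^ 11 % 23) 1) = true := by
  decide +kernel

theorem eleven_fix : elevenNorm.all (fun c => Nat.beq (app c 23) 23 && Nat.beq (app c 0) 0 &&
    !allLt 11 fun k => !eqc (PermCode.mul 24 c twoCode) (PermCode.mul 24 (powc twoCode k) c)) = true ∧
    allLt 55 (fun i => allLt i fun j => !eqc (elevenNorm.getD i 0) (elevenNorm.getD j 0)) = true := by
  decide +kernel

theorem two_fix : app twoCode 23 = 23 ∧ app twoCode 0 = 0 ∧ app trCode 23 = 23 := by decide +kernel

theorem two_point : ∀ x : ZMod 23, app twoCode (bit (some x : GolayPt)) = bit (some (2 * x) : GolayPt) := by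
  decide +kernel

theorem tr_point : ∀ x : ZMod 23, app trCode (bit (some x : GolayPt)) = bit (some (x + 1) : GolayPt) := by
  decide +kernel

theorem inv_point : ∀ p : GolayPt, app invCode (bit p) = bit (projInv p) := by
  decide +kernel

end CfsgLib.M24Cert
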