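import Cfsg.Agent.Lib.Golay.Mathieu
import Cfsg.Agent.Lib.GolayDesign.Octads

/-!
Quartets of a dodecad: transitivity and number.
-/

set_option autoImplicit false

namespace CfsgLib.M24Cert

open Cfsg CfsgLib.Golay
open scoped Pointwise

variable {d : Finset GolayPt} {Q : Finset (Finset GolayPt)}

theorem quartet_disjoint (hQ : Q ∈ quartets d) {t u : Finset GolayPt} (ht : t ∈ Q) (hu : u ∈ Q)
    (h : t ≠ u) : Disjoint t u := by
  rw [← Finset.card_union_eq_card_add_card, (hQ.2.2 t ht u hu h).1, (hQ.2.1 t ht).1, (hQ.2.1 u hu).1]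

theorem smul_mem_hexadsOn {g : Equiv.Perm GolayPt} (hg : g ∈ M24) {h : Finset GolayPt}
    (hh : h ∈ hexadsOn d) : g • h ∈ hexadsOn (g • d) := by
  obtain ⟨h6, o, ho, rfl⟩ := hh
  exact ⟨by rw [Finset.card_smul_finset, h6], g • o, (M24_smul_mem_octads hg).2 ho,
    (Finset.smul_finset_inter).symm⟩

theorem smul_mem_quartets {g : Equiv.Perm GolayPt} (hg : g ∈ M24) (hQ : Q ∈ quartets d) :
    g • Q ∈ quartets (g • d) := by
  refine ⟨by rw [Finset.card_smul_finset, hQ.1], fun t ht => ?_, fun t ht u hu hne => ?_⟩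
  · obtain ⟨a, ha, rfl⟩ := Finset.mem_smul_finset.1 ht
    exact ⟨by rw [Finset.card_smul_finset, (hQ.2.1 a ha).1],
      Finset.smul_finset_subset_smul_finset_iff.2 (hQ.2.1 a ha).2⟩
  · obtain ⟨a, ha, rfl⟩ := Finset.mem_smul_finset.1 ht
    obtain ⟨b, hb, rfl⟩ := Finset.mem_smul_finset.1 hu
    rw [← Finset.smul_finset_union]
    exact smul_mem_hexadsOn hg (hQ.2.2 a ha b hb fun e => hne (by rw [e]))

theorem quartets_eq_of_two (hd : d ∈ dodecads) {Q' : Finset (Finset GolayPt)}
    (hQ : Q ∈ quartets d) (hQ' : Q' ∈ quartets d) {t u : Finset GolayPt} (hne : t ≠ u)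
    (ht : t ∈ Q) (hu : u ∈ Q) (ht' : t ∈ Q') (hu' : u ∈ Q') : Q = Q' := by
  obtain ⟨R, -, huniq⟩ := GolayDesign.existsUnique_quartet hd (hQ.2.1 t ht).1 (hQ.2.1 u hu).1
    (quartet_disjoint hQ ht hu hne) (hQ.2.2 t ht u hu hne)
  exact (huniq Q ⟨hQ, ht, hu⟩).trans (huniq Q' ⟨hQ', ht', hu'⟩).symm

/-- Two triples in a quartet, listed by five of their points. -/
theorem exists_five (hQ : Q ∈ quartets d) :
    ∃ (t u : Finset GolayPt) (x : Fin 5 ↪ GolayPt), t ∈ Q ∧ u ∈ Q ∧ t ≠ u ∧ (∀ i, x i ∈ d) ∧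
      t = {x 0, x 1, x 2} ∧ x 3 ∈ u ∧ x 4 ∈ u := by
  obtain ⟨t, ht, u, hu, hne⟩ := Finset.one_lt_card.1 (by rw [hQ.1]; norm_num : 1 < Q.card)
  obtain ⟨a, b, c, hab, hac, hbc, het⟩ := Finset.card_eq_three.1 (hQ.2.1 t ht).1
  obtain ⟨e, f, g, hef, -, -, heu⟩ := Finset.card_eq_three.1 (hQ.2.1 u hu).1
  have hdis := quartet_disjoint hQ ht hu hne
  rw [het, heu] at hdis
  simp [Finset.disjoint_insert_left, Finset.disjoint_singleton_left] at hdis
  refine ⟨t, u, ⟨![a, b, c, e, f], ?_⟩, ht, hu, hne, ?_, het, ?_, ?_⟩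
  · intro i j hij
    fin_cases i <;> fin_cases j <;> simp_all
  · intro i
    fin_cases i
    · exact (hQ.2.1 t ht).2 (show a ∈ t by simp [het])
    · exact (hQ.2.1 t ht).2 (show b ∈ t by simp [het])
    · exact (hQ.2.1 t ht).2 (show c ∈ t by simp [het])
    · exact (hQ.2.1 u hu).2 (show e ∈ u by simp [heu])
    · exact (hQ.2.1 u hu).2 (show f ∈ u by simp [heu])
  · change e ∈ u; simp [heu]
  · change f ∈ u; simp [heu]

theorem exists_map_quartet (hd : d ∈ dodecads) {Q' : Finset (Finset GolayPt)}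
    (hQ : Q ∈ quartets d) (hQ' : Q' ∈ quartets d) : ∃ g ∈ M24, g • d = d ∧ g • Q = Q' := by
  obtain ⟨t, u, x, ht, hu, hne, hxd, het, h3, h4⟩ := exists_five hQ
  obtain ⟨t', u', y, ht', hu', hne', hyd, het', h3', h4'⟩ := exists_five hQ'
  obtain ⟨⟨⟨g, hgM⟩, hgd⟩, hg, -⟩ := stab_dodecad_sharp hd x y hxd hyd
  have hgd' : g • d = d := hgd
  have hg' : ∀ i, g (x i) = y i := hg
  have hgt : g • t = t' := by
    simp only [het, het', Finset.smul_finset_insert, Finset.smul_finset_singleton,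
      Equiv.Perm.smul_def, hg']
  have hQg : g • Q ∈ quartets d := hgd' ▸ smul_mem_quartets hgM hQ
  have hgu : g • u ∈ g • Q := Finset.smul_mem_smul_finset hu
  have hgt' : g • t ∈ g • Q := Finset.smul_mem_smul_finset ht
  have hneg : g • t ≠ g • u := fun e => hne (MulAction.injective g e)
  have h1 := hQg.2.2 _ hgt' _ hgu hneg
  have h2 := hQ'.2.2 _ ht' _ hu' hne'
  have hH : g • t ∪ g • u = t' ∪ u' := by
    have hsub : Finset.univ.map y ⊆ (g • t ∪ g • u) ∩ (t' ∪ u') := by
      intro p hp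
      obtain ⟨i, -, rfl⟩ := Finset.mem_map.1 hp
      have e : ∀ {s : Finset GolayPt}, x i ∈ s → y i ∈ g • s := fun hs => by
        rw [← hg' i]; exact Finset.smul_mem_smul_finset hs
      fin_cases i <;> refine Finset.mem_inter.2 ⟨?_, ?_⟩
      · exact Finset.mem_union_left _ (e (by simp [het]))
      · exact Finset.mem_union_left _ (by simp [het'])
      · exact Finset.mem_union_left _ (e (by simp [het]))
      · exact Finset.mem_union_left _ (by simp [het'])
      · exact Finset.mem_union_left _ (e (by simp [het]))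
      · exact Finset.mem_union_left _ (by simp [het'])
      · exact Finset.mem_union_right _ (e h3)
      · exact Finset.mem_union_right _ h3'
      · exact Finset.mem_union_right _ (e h4)
      · exact Finset.mem_union_right _ h4'
    refine (GolayDesign.hexadsOn_designOn hd).uniq _ ?_ _ ((Set.Finite.mem_toFinset _).2 h1) _
      ((Set.Finite.mem_toFinset _).2 h2) (hsub.trans Finset.inter_subset_left)
      (hsub.trans Finset.inter_subset_right)
    simp
  have hu_eq : g • u = u' := by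
    rw [← Finset.union_sdiff_cancel_left (quartet_disjoint hQg hgt' hgu hneg), hH, hgt,
      Finset.union_sdiff_cancel_left (quartet_disjoint hQ' ht' hu' hne')]
  exact ⟨g, hgM, hgd', quartets_eq_of_two hd hQg hQ' hne' (hgt ▸ hgt') (hu_eq ▸ hgu) ht' hu'⟩

theorem ncard_hexadsOn (hd : d ∈ dodecads) : (hexadsOn d).ncard = 132 := by
  have h := octads_meeting_count hd 6
  rw [hexad_count_checks.1] at h
  rw [← h]
  refine (Set.ncard_congr (fun o _ => o ∩ d) ?_ ?_ ?_).symm
  · intro o ho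
    exact ⟨ho.2, o, ho.1, rfl⟩
  rotate_left
  · rintro s ⟨h6, o, ho, he⟩
    exact ⟨o, ⟨ho, by rw [he, h6]⟩, he⟩
  intro a b ha hb e
  refine octad_eq_of_five ha.1 hb.1 ?_
  have hsub : a ∩ d ⊆ a ∩ b := Finset.subset_inter Finset.inter_subset_left
    (fun p hp => (Finset.mem_inter.1 (e ▸ hp)).1)
  have := Finset.card_le_card hsub
  rw [ha.2] at this
  omega

theorem ncard_quartets (hd : d ∈ dodecads) : (quartets d).ncard = 220 := by
  classical
  have hfin : (quartets d).Finite := Set.toFinite _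
  let S : Finset (Finset (Finset GolayPt)) := hfin.toFinset
  let H : Finset (Finset GolayPt) := (Set.toFinite (hexadsOn d)).toFinset
  have hH : H.card = 132 := by
    rw [← ncard_hexadsOn hd, Set.ncard_eq_toFinset_card (hexadsOn d) (Set.toFinite _)]
  have hcount : (S.sigma fun Q => Q.offDiag).card = (H.sigma fun h => h.powersetCard 3).card := by
    refine Finset.card_bij (fun p _ => ⟨p.2.1 ∪ p.2.2, p.2.1⟩) ?_ ?_ ?_
    · rintro ⟨Q, t, u⟩ hp
      simp only [Finset.mem_sigma, Finset.mem_offDiag, S, Set.Finite.mem_toFinset] at hp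
      obtain ⟨hQ, ht, hu, hne⟩ := hp
      simp only [Finset.mem_sigma, H, Set.Finite.mem_toFinset, Finset.mem_powersetCard]
      exact ⟨hQ.2.2 t ht u hu hne, Finset.subset_union_left, (hQ.2.1 t ht).1⟩
    · rintro ⟨Q, t, u⟩ hp ⟨Q', t', u'⟩ hp' e
      simp only [Finset.mem_sigma, Finset.mem_offDiag, S, Set.Finite.mem_toFinset] at hp hp'
      obtain ⟨hQ, ht, hu, hne⟩ := hp
      obtain ⟨hQ', ht', hu', hne'⟩ := hp'
      simp only [Sigma.mk.injEq, heq_eq_eq] at e
      obtain ⟨e1, rfl⟩ := e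
      have hu_eq : u = u' := by
        rw [← Finset.union_sdiff_cancel_left (quartet_disjoint hQ ht hu hne), e1,
          Finset.union_sdiff_cancel_left (quartet_disjoint hQ' ht' hu' hne')]
      subst hu_eq
      rw [quartets_eq_of_two hd hQ hQ' hne ht hu ht' hu']
    · rintro ⟨h, t⟩ hp
      simp only [Finset.mem_sigma, H, Set.Finite.mem_toFinset, Finset.mem_powersetCard] at hp
      obtain ⟨hh, hsub, ht⟩ := hp
      have hu : (h \ t).card = 3 := by rw [Finset.card_sdiff_of_subset hsub, hh.1, ht]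
      obtain ⟨R, ⟨hR, htR, huR⟩, -⟩ := GolayDesign.existsUnique_quartet hd ht hu
        Finset.disjoint_sdiff (by rwa [Finset.union_sdiff_of_subset hsub])
      refine ⟨⟨R, t, h \ t⟩, ?_, ?_⟩
      · simp only [Finset.mem_sigma, Finset.mem_offDiag, S, Set.Finite.mem_toFinset]
        refine ⟨hR, htR, huR, fun e => ?_⟩
        have := Finset.disjoint_sdiff (s := t) (t := h)
        rw [← e, Finset.disjoint_self_iff_empty] at this
        simp [this] at ht
      · simp [Finset.union_sdiff_of_subset hsub]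
  have h1 : (S.sigma fun Q => Q.offDiag).card = S.card * 12 := by
    rw [Finset.card_sigma]
    exact Finset.sum_const_nat fun Q hQ => by
      rw [Finset.offDiag_card, ((Set.Finite.mem_toFinset _).1 hQ).1]
  have h2 : (H.sigma fun h => h.powersetCard 3).card = H.card * 20 := by
    rw [Finset.card_sigma]
    exact Finset.sum_const_nat fun h hh => by
      rw [Finset.card_powersetCard, ((Set.Finite.mem_toFinset _).1 hh).1]; rfl
  rw [h1, h2, hH] at hcount
  rw [Set.ncard_eq_toFinset_card _ hfin]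
  change S.card = 220
  omega

end CfsgLib.M24Cert
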