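import Cfsg.Agent.Lib.KGV.M24Calc
import Cfsg.Agent.Lib.M24Cert.DataQuartet

/-!
Kernel checks for the stabiliser of the standard quartet.
-/

set_option autoImplicit false

namespace CfsgLib.M24Cert

open CfsgLib.Golay

/-- The code fixes the standard dodecad and quartet. -/
noncomputable def goodQ (c : ℕ) : Bool :=
  M24Calc.good c && Nat.beq (push c 340831) 340831 &&
    quartet0.all fun t => quartet0.any (Nat.beq (push c t))

/-- The representative of an index. -/
def rcode (i : ℕ) : ℕ := quartetR.getD i 0

/-- The element of the normal subgroup of an index. -/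
def ncode (k : ℕ) : ℕ := quartetN.getD k 0

/-- The entries of an index, and invertibility. -/
def invertible (i : ℕ) : Bool :=
  !Nat.beq ((i % 3 * (i / 27 % 3) + 2 * (i / 3 % 3) * (i / 9 % 3)) % 3) 0

/-- The product of two indices. -/
def mulIdx (i j : ℕ) : ℕ :=
  (i % 3 * (j % 3) + i / 3 % 3 * (j / 9 % 3)) % 3 +
    3 * ((i % 3 * (j / 3 % 3) + i / 3 % 3 * (j / 27 % 3)) % 3) +
    9 * ((i / 9 % 3 * (j % 3) + i / 27 % 3 * (j / 9 % 3)) % 3) +
    27 * ((i / 9 % 3 * (j / 3 % 3) + i / 27 % 3 * (j / 27 % 3)) % 3)

/-- The composition of two codes, as a function. -/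
def comp2 (a b : ℕ) : ℕ → ℕ := fun j => app a (app b j)

/-- The masks form a quartet of the standard dodecad. -/
noncomputable def quartetCheck (l : List ℕ) : Bool :=
  decide l.Nodup && Nat.beq l.length 4 &&
    (l.all fun t => Nat.blt t 16777216 && Nat.beq (pc24 t) 3 && Nat.beq (340831 &&& t) t) &&
    l.all fun t => l.all fun u => Nat.beq t u || (Nat.beq (pc24 (t ||| u)) 6 &&
      !(allR (fun x => let c := comb x;
        !(Nat.beq (pc24 c) 8 && Nat.beq (c &&& 340831) (t ||| u))) 12 0))

theorem quartet_checks : quartetCheck quartet0 = true ∧ quartetCheck quartetOrb12 = true ∧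
    quartetCheck quartetOrb27 = true ∧ quartetCheck quartetOrb72 = true ∧
    quartetCheck quartetOrb108 = true := by
  decide +kernel

/-- The weight used to tell the orbits apart. -/
def wt (k : ℕ) : ℕ := 64 * k ^ 3 + k ^ 2

/-- The invariant of a list of masks against the standard quartet. -/
noncomputable def invList (l : List ℕ) : ℕ :=
  (l.map fun t => (quartet0.map fun u => wt (pc24 (t &&& u))).sum).sum

/-- The key of the image of a list of masks. -/
noncomputable def keyOf (l : List ℕ) (m : ℕ × ℕ) : ℕ :=
  (l.map fun t => push (rcode m.1) (push (ncode m.2) t) ^ 2).sum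

/-- The moves are valid and have distinct effects. -/
noncomputable def movesCheck (l : List ℕ) (ms : List (ℕ × ℕ)) : Bool :=
  ms.all (fun m => invertible m.1 && Nat.blt m.1 81 && Nat.blt m.2 9 &&
    l.all fun t => Nat.blt (push (rcode m.1) (push (ncode m.2) t)) 16777216) &&
    decide (ms.map (keyOf l)).Nodup

theorem moves_checks :
    movesCheck quartetOrb12 quartetOrb12Moves = true ∧ quartetOrb12Moves.length = 12 ∧
    movesCheck quartetOrb27 quartetOrb27Moves = true ∧ quartetOrb27Moves.length = 27 ∧
    movesCheck quartetOrb72 quartetOrb72Moves = true ∧ quartetOrb72Moves.length = 72 ∧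
    movesCheck quartetOrb108 quartetOrb108Moves = true ∧ quartetOrb108Moves.length = 108 := by
  decide +kernel

theorem inv_checks : [invList quartet0, invList quartetOrb12, invList quartetOrb27,
    invList quartetOrb72, invList quartetOrb108].Nodup := by
  decide +kernel

theorem good_checks : allLt 81 (fun i => !invertible i || goodQ (rcode i)) = true ∧
    allLt 9 (fun k => goodQ (ncode k)) = true := by
  decide +kernel

theorem one_checks : M24Calc.eqF (app (rcode 28)) id = true ∧
    M24Calc.eqF (app (ncode 0)) id = true := by
  decide +kernel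

theorem mul_check : allLt 81 (fun i => !invertible i || allLt 81 fun j => !invertible j ||
    !allLt 9 fun k => !M24Calc.eqF (comp2 (rcode i) (rcode j)) (comp2 (rcode (mulIdx i j)) (ncode k)))
      = true := by
  decide +kernel

theorem inj_check : allLt 81 (fun i => !invertible i || allLt 81 fun j => !invertible j ||
    allLt 9 fun k => (Nat.beq i j && Nat.beq k 0) ||
      !M24Calc.eqF (comp2 (rcode i) (ncode k)) (app (rcode j))) = true := by
  decide +kernel

theorem n_check : allLt 9 (fun k => allLt 9 fun l => M24Calc.eqF (comp2 (ncode k) (ncode l))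
    (app (ncode ((k % 3 + l % 3) % 3 + 3 * ((k / 3 + l / 3) % 3))))) = true := by
  decide +kernel

theorem conj_check : allLt 81 (fun i => !invertible i || allLt 9 fun k =>
    !allLt 9 fun l => !M24Calc.eqF (comp2 (rcode i) (ncode k)) (comp2 (ncode l) (rcode i))) = true := by
  decide +kernel

theorem trans_check : allLt 24 (fun i => allLt 24 fun j =>
    !((340831 : ℕ).testBit i && (340831 : ℕ).testBit j) || !allLt 81 fun a =>
      !invertible a || allLt 9 fun k => !Nat.beq (comp2 (rcode a) (ncode k) i) j) = true := by
  decide +kernel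

end CfsgLib.M24Cert
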