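import Cfsg.Agent.Lib.KGV.M24Calc
import Cfsg.Agent.Lib.M24Cert.Quartet
import Cfsg.Agent.Lib.M24Cert.QuartetChecks
import Mathlib.LinearAlgebra.Matrix.GeneralLinearGroup.Card

/-!
The stabiliser of a quartet inside the stabiliser of its dodecad.
-/

set_option autoImplicit false

namespace CfsgLib.M24Cert

open Cfsg CfsgLib.Golay
open scoped Pointwise MatrixGroups

/-- The stabiliser of a dodecad and one of its quartets. -/
abbrev qStab (d : Finset GolayPt) (Q : Finset (Finset GolayPt)) : Subgroup M24 :=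
  MulAction.stabilizer M24 d ⊓ MulAction.stabilizer M24 Q

theorem mem_qStab {d : Finset GolayPt} {Q : Finset (Finset GolayPt)} {g : M24} :
    g ∈ qStab d Q ↔ (g : Equiv.Perm GolayPt) • d = d ∧ (g : Equiv.Perm GolayPt) • Q = Q := Iff.rfl

theorem card_qStab {d : Finset GolayPt} {Q : Finset (Finset GolayPt)} (hd : d ∈ dodecads)
    (hQ : Q ∈ quartets d) : Nat.card (qStab d Q) = 432 := by
  let G := MulAction.stabilizer M24 d
  have horb : MulAction.orbit G Q = quartets d := by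
    refine Set.eq_of_subset_of_subset ?_ fun Q' hQ' => ?_
    · rintro _ ⟨⟨⟨g, hg⟩, hgd⟩, rfl⟩
      have h : g • d = d := hgd
      exact h ▸ smul_mem_quartets hg hQ
    · obtain ⟨g, hg, hgd, hgQ⟩ := exists_map_quartet hd hQ hQ'
      exact ⟨⟨⟨g, hg⟩, hgd⟩, hgQ⟩
  have h := Nat.card_congr (MulAction.orbitProdStabilizerEquivGroup G Q)
  rw [Nat.card_prod, Nat.card_coe_set_eq, horb, ncard_quartets hd, card_stab_dodecad hd] at h
  have e : Nat.card (qStab d Q) = Nat.card (MulAction.stabilizer G Q) :=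
    Nat.card_congr
      { toFun := fun x => ⟨⟨x.1, x.2.1⟩, x.2.2⟩
        invFun := fun x => ⟨x.1.1, x.1.2, x.2⟩
        left_inv := fun _ => rfl
        right_inv := fun _ => rfl }
  omega

/-- The standard dodecad. -/
noncomputable def dod12 : Finset GolayPt := toSet 340831

/-- The standard quartet. -/
noncomputable def qrt0 : Finset (Finset GolayPt) := (quartet0.map toSet).toFinset

theorem dod12_mem : dod12 ∈ dodecads := by
  rw [dod12, ← squareDodecad_eq]; exact squareDodecad_mem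

theorem allR_complete {f : ℕ → Bool} : ∀ {k lo : ℕ},
    (∀ x, lo ≤ x → x < lo + 2 ^ k → f x = true) → allR f k lo = true
  | 0, lo, h => h lo le_rfl (by simp)
  | k + 1, lo, h => by
    show (allR f k lo && allR f k (lo + 2 ^ k)) = true
    rw [allR_complete (fun x h1 h2 => h x h1 (by rw [pow_succ]; omega)),
      allR_complete (fun x h1 h2 => h x (by omega) (by rw [pow_succ]; omega))]
    rfl

/-- The set of triples of a list of masks. -/
noncomputable def setsOf (l : List ℕ) : Finset (Finset GolayPt) := (l.map toSet).toFinset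

theorem mem_quartets_of_check {l : List ℕ} (h : quartetCheck l = true) :
    setsOf l ∈ quartets dod12 := by
  simp only [quartetCheck, Bool.and_eq_true, decide_eq_true_eq, Nat.beq_eq, List.all_eq_true,
    Nat.blt_eq] at h
  obtain ⟨⟨⟨hnd, hlen⟩, ht⟩, hu⟩ := h
  refine ⟨?_, fun s hs => ?_, fun s hs r hr hne => ?_⟩
  · rw [setsOf, List.toFinset_card_of_nodup, List.length_map, hlen]
    exact hnd.map_on fun a ha b hb e => toSet_inj (ht a ha).1.1 (ht b hb).1.1 e
  · obtain ⟨t, htm, rfl⟩ := List.mem_map.1 (List.mem_toFinset.1 hs)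
    refine ⟨by rw [card_toSet, ← pc24_eq, (ht t htm).1.2], ?_⟩
    rw [dod12, ← Finset.inter_eq_right, ← toSet_and, (ht t htm).2]
  · obtain ⟨t, htm, rfl⟩ := List.mem_map.1 (List.mem_toFinset.1 hs)
    obtain ⟨u, hum, rfl⟩ := List.mem_map.1 (List.mem_toFinset.1 hr)
    have hne' : t ≠ u := fun e => hne (by rw [e])
    have h := hu t htm u hum
    simp only [Bool.or_eq_true, Bool.and_eq_true, Nat.beq_eq, hne', false_or,
      Bool.not_eq_true'] at h
    rw [← toSet_or]
    refine ⟨by rw [card_toSet, ← pc24_eq, h.1], ?_⟩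
    by_contra hno
    refine absurd (allR_complete fun x _ hx => ?_) (by rw [h.2]; exact Bool.false_ne_true)
    have hx' : x < 2 ^ 12 := by simpa using hx
    by_contra hb
    simp only [Bool.not_eq_true, Bool.not_eq_false', Bool.and_eq_true, Nat.beq_eq, pc24_eq] at hb
    exact hno ⟨toSet (comb x), mem_wordsOfWeight_iff.2 ⟨x, hx', hb.1, rfl⟩,
      by rw [dod12, ← toSet_and, hb.2]⟩

theorem qrt0_mem : qrt0 ∈ quartets dod12 := mem_quartets_of_check quartet_checks.1

/-! ### Coded elements -/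

theorem mem_qStab_of_goodQ {c : ℕ} (h : goodQ c = true) :
    ∃ hc : M24Calc.ofCode c ∈ M24, (⟨M24Calc.ofCode c, hc⟩ : M24) ∈ qStab dod12 qrt0 := by
  simp only [goodQ, Bool.and_eq_true, Nat.beq_eq, List.all_eq_true] at h
  obtain ⟨⟨hg, hd⟩, hq⟩ := h
  have hf : IsPermOf (M24Calc.ofCode c) c := M24Calc.isFun_of_good hg
  refine ⟨M24Calc.mem_of_good hg, mem_qStab.2 ⟨?_, ?_⟩⟩
  · show M24Calc.ofCode c • toSet 340831 = toSet 340831
    rw [← toSet_push hf, hd]
  · show M24Calc.ofCode c • qrt0 = qrt0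
    refine Finset.eq_of_subset_of_card_le (fun s hs => ?_) (Finset.card_smul_finset _ _).ge
    obtain ⟨s', hs', rfl⟩ := Finset.mem_smul_finset.1 hs
    obtain ⟨t, ht, rfl⟩ := List.mem_map.1 (List.mem_toFinset.1 hs')
    obtain ⟨u, hu, he⟩ := List.any_eq_true.1 (hq t ht)
    rw [← toSet_push hf, Nat.eq_of_beq_eq_true he]
    exact List.mem_toFinset.2 (List.mem_map.2 ⟨u, hu, rfl⟩)

open scoped Classical in
/-- The stabiliser element of a code. -/
noncomputable def el (c : ℕ) : qStab dod12 qrt0 :=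
  if h : goodQ c = true then ⟨⟨_, (mem_qStab_of_goodQ h).1⟩, (mem_qStab_of_goodQ h).2⟩ else 1

theorem isPermOf_el {c : ℕ} (h : goodQ c = true) :
    IsPermOf (((el c : qStab dod12 qrt0) : M24) : Equiv.Perm GolayPt) c := by
  rw [el, dif_pos h]
  simp only [goodQ, Bool.and_eq_true] at h
  exact M24Calc.isFun_of_good h.1.1

/-- The index of a matrix. -/
def idx (M : Matrix (Fin 2) (Fin 2) (ZMod 3)) : ℕ :=
  (M 0 0).val + 3 * (M 0 1).val + 9 * (M 1 0).val + 27 * (M 1 1).val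

theorem idx_lt (M : Matrix (Fin 2) (Fin 2) (ZMod 3)) : idx M < 81 := by
  have := ZMod.val_lt (M 0 0); have := ZMod.val_lt (M 0 1)
  have := ZMod.val_lt (M 1 0); have := ZMod.val_lt (M 1 1)
  unfold idx; omega

theorem entry_facts : ∀ a b c d : ZMod 3,
    (invertible (a.val + 3 * b.val + 9 * c.val + 27 * d.val) = true ↔ a * d - b * c ≠ 0) := by
  decide +kernel

theorem invertible_idx (M : GL (Fin 2) (ZMod 3)) :
    invertible (idx (M : Matrix (Fin 2) (Fin 2) (ZMod 3))) = true := by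
  rw [idx, entry_facts, ← Matrix.det_fin_two]
  exact (Matrix.GeneralLinearGroup.det M).ne_zero

theorem mul_entry : ∀ a b c d : ZMod 3, (a * b + c * d).val = (a.val * b.val + c.val * d.val) % 3 := by
  decide +kernel

theorem idx_mul (M M' : Matrix (Fin 2) (Fin 2) (ZMod 3)) : idx (M * M') = mulIdx (idx M) (idx M') := by
  have hd : ∀ a b c d : ℕ, a < 3 → b < 3 → c < 3 → d < 3 →
      (a + 3 * b + 9 * c + 27 * d) % 3 = a ∧ (a + 3 * b + 9 * c + 27 * d) / 3 % 3 = b ∧
      (a + 3 * b + 9 * c + 27 * d) / 9 % 3 = c ∧ (a + 3 * b + 9 * c + 27 * d) / 27 % 3 = d := by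
    intro a b c d h1 h2 h3 h4; omega
  obtain ⟨a1, a2, a3, a4⟩ := hd (M 0 0).val (M 0 1).val (M 1 0).val (M 1 1).val (ZMod.val_lt _)
    (ZMod.val_lt _) (ZMod.val_lt _) (ZMod.val_lt _)
  obtain ⟨b1, b2, b3, b4⟩ := hd (M' 0 0).val (M' 0 1).val (M' 1 0).val (M' 1 1).val (ZMod.val_lt _)
    (ZMod.val_lt _) (ZMod.val_lt _) (ZMod.val_lt _)
  simp only [idx, mulIdx, a1, a2, a3, a4, b1, b2, b3, b4, Matrix.mul_apply, Fin.sum_univ_two,
    mul_entry]

/-- The two kinds of elements. -/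
noncomputable def nEl (k : ℕ) : qStab dod12 qrt0 := el (ncode k)

/-- The representative of a matrix. -/
noncomputable def rEl (M : GL (Fin 2) (ZMod 3)) : qStab dod12 qrt0 :=
  el (rcode (idx (M : Matrix (Fin 2) (Fin 2) (ZMod 3))))

theorem isPermOf_nEl {k : ℕ} (hk : k < 9) :
    M24Calc.IsFun (((nEl k : qStab dod12 qrt0) : M24) : Equiv.Perm GolayPt) (app (ncode k)) :=
  isPermOf_el (allLt_spec good_checks.2 k hk)

theorem isPermOf_rEl (M : GL (Fin 2) (ZMod 3)) :
    M24Calc.IsFun (((rEl M : qStab dod12 qrt0) : M24) : Equiv.Perm GolayPt)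
      (app (rcode (idx (M : Matrix (Fin 2) (Fin 2) (ZMod 3))))) := by
  refine isPermOf_el ?_
  have := allLt_spec good_checks.1 _ (idx_lt (M : Matrix (Fin 2) (Fin 2) (ZMod 3)))
  rwa [invertible_idx, Bool.not_true, Bool.false_or] at this

theorem qext {x y : qStab dod12 qrt0} {f g : ℕ → ℕ}
    (hf : M24Calc.IsFun ((x : M24) : Equiv.Perm GolayPt) f)
    (hg : M24Calc.IsFun ((y : M24) : Equiv.Perm GolayPt) g) (h : M24Calc.eqF f g = true) : x = y :=
  Subtype.ext (Subtype.ext (M24Calc.eq_of_eqF hf hg h))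

theorem exists_of_allLt {k : ℕ} {f : ℕ → Bool} (h : (!allLt k fun i => !f i) = true) :
    ∃ i < k, f i = true := by
  by_contra hne
  rw [M24Calc.allLt_of_forall fun i hi => ?_] at h
  · exact Bool.noConfusion h
  · rw [Bool.not_eq_true']
    exact Bool.eq_false_iff.2 fun e => hne ⟨i, hi, e⟩

theorem nEl_zero : nEl 0 = 1 :=
  qext (isPermOf_nEl (by norm_num)) M24Calc.IsFun.one one_checks.2

theorem nEl_mul {k l : ℕ} (hk : k < 9) (hl : l < 9) :
    nEl k * nEl l = nEl ((k % 3 + l % 3) % 3 + 3 * ((k / 3 + l / 3) % 3)) :=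
  qext ((isPermOf_nEl hk).mul (isPermOf_nEl hl)) (isPermOf_nEl (by omega))
    (allLt_spec (allLt_spec n_check k hk) l hl)

/-- The normal subgroup of order nine. -/
noncomputable def qKer : Subgroup (qStab dod12 qrt0) where
  carrier := {x | ∃ k < 9, x = nEl k}
  one_mem' := ⟨0, by norm_num, nEl_zero.symm⟩
  mul_mem' := by
    rintro _ _ ⟨k, hk, rfl⟩ ⟨l, hl, rfl⟩
    exact ⟨_, by omega, nEl_mul hk hl⟩
  inv_mem' := by
    rintro _ ⟨k, hk, rfl⟩
    refine ⟨(3 - k % 3) % 3 + 3 * ((3 - k / 3) % 3), by omega, inv_eq_of_mul_eq_one_right ?_⟩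
    rw [nEl_mul hk (by omega), ← nEl_zero]
    congr 1
    omega

theorem rEl_mul_nEl_mem {k : ℕ} (hk : k < 9) (M : GL (Fin 2) (ZMod 3)) :
    ∃ l < 9, rEl M * nEl k = nEl l * rEl M := by
  have h := allLt_spec conj_check _ (idx_lt (M : Matrix (Fin 2) (Fin 2) (ZMod 3)))
  rw [invertible_idx, Bool.not_true, Bool.false_or] at h
  obtain ⟨l, hl, he⟩ := exists_of_allLt (allLt_spec h k hk)
  exact ⟨l, hl, qext ((isPermOf_rEl M).mul (isPermOf_nEl hk)) ((isPermOf_nEl hl).mul (isPermOf_rEl M))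
    he⟩

theorem rEl_mul (M M' : GL (Fin 2) (ZMod 3)) :
    ∃ k < 9, rEl M * rEl M' = rEl (M * M') * nEl k := by
  have h := allLt_spec mul_check _ (idx_lt (M : Matrix (Fin 2) (Fin 2) (ZMod 3)))
  rw [invertible_idx, Bool.not_true, Bool.false_or] at h
  have h' := allLt_spec h _ (idx_lt (M' : Matrix (Fin 2) (Fin 2) (ZMod 3)))
  rw [invertible_idx, Bool.not_true, Bool.false_or] at h'
  obtain ⟨k, hk, he⟩ := exists_of_allLt h'
  refine ⟨k, hk, qext ((isPermOf_rEl M).mul (isPermOf_rEl M'))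
    ((isPermOf_rEl (M * M')).mul (isPermOf_nEl hk)) ?_⟩
  rw [Units.val_mul, idx_mul]
  exact he

theorem idx_injective {M M' : Matrix (Fin 2) (Fin 2) (ZMod 3)} (h : idx M = idx M') : M = M' := by
  have := ZMod.val_lt (M 0 0); have := ZMod.val_lt (M 0 1); have := ZMod.val_lt (M 1 0)
  have := ZMod.val_lt (M 1 1); have := ZMod.val_lt (M' 0 0); have := ZMod.val_lt (M' 0 1)
  have := ZMod.val_lt (M' 1 0); have := ZMod.val_lt (M' 1 1)
  unfold idx at h
  ext i j
  fin_cases i <;> fin_cases j <;> refine ZMod.val_injective 3 ?_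
  · show (M 0 0).val = (M' 0 0).val; omega
  · show (M 0 1).val = (M' 0 1).val; omega
  · show (M 1 0).val = (M' 1 0).val; omega
  · show (M 1 1).val = (M' 1 1).val; omega

theorem rEl_mul_nEl_eq {M M' : GL (Fin 2) (ZMod 3)} {k : ℕ} (hk : k < 9)
    (h : rEl M * nEl k = rEl M') : M = M' ∧ k = 0 := by
  have e := M24Calc.eqF_of_eq ((isPermOf_rEl M).mul (isPermOf_nEl hk)) (isPermOf_rEl M')
    (congrArg (fun x : qStab dod12 qrt0 => ((x : M24) : Equiv.Perm GolayPt)) h)
  have h1 := allLt_spec inj_check _ (idx_lt (M : Matrix (Fin 2) (Fin 2) (ZMod 3)))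
  rw [invertible_idx, Bool.not_true, Bool.false_or] at h1
  have h2 := allLt_spec h1 _ (idx_lt (M' : Matrix (Fin 2) (Fin 2) (ZMod 3)))
  rw [invertible_idx, Bool.not_true, Bool.false_or] at h2
  have h3 := allLt_spec h2 k hk
  rw [show M24Calc.eqF (comp2 (rcode (idx (M : Matrix (Fin 2) (Fin 2) (ZMod 3)))) (ncode k))
    (app (rcode (idx (M' : Matrix (Fin 2) (Fin 2) (ZMod 3))))) = true from e] at h3
  simp only [Bool.not_true, Bool.or_false, Bool.and_eq_true, Nat.beq_eq] at h3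
  exact ⟨Units.ext (idx_injective h3.1), h3.2⟩

theorem card_qKer : Nat.card qKer = 9 := by
  rw [show (9 : ℕ) = Nat.card (Fin 9) by simp]
  refine (Nat.card_eq_of_bijective (fun k : Fin 9 => (⟨nEl k, k, k.2, rfl⟩ : qKer)) ⟨?_, ?_⟩).symm
  · intro k l h
    have h' : nEl k = nEl l := congrArg Subtype.val h
    have hn : nEl ((3 - l.1 % 3) % 3 + 3 * ((3 - l.1 / 3) % 3)) * nEl l = 1 := by
      rw [nEl_mul (by omega) l.2, ← nEl_zero]; congr 1; omega
    rw [← h', nEl_mul (by omega) k.2] at hn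
    have hl : l.1 < 9 := l.2
    have hk : k.1 < 9 := k.2
    have := (rEl_mul_nEl_eq (M := 1) (M' := 1) (k := (((3 - l.1 % 3) % 3 + 3 * ((3 - l.1 / 3) % 3)) % 3
      + k.1 % 3) % 3 + 3 * ((((3 - l.1 % 3) % 3 + 3 * ((3 - l.1 / 3) % 3)) / 3 + k.1 / 3) % 3))
      (by omega) (by rw [hn, mul_one])).2
    exact Fin.ext (by omega)
  · rintro ⟨_, k, hk, rfl⟩
    exact ⟨⟨k, hk⟩, rfl⟩

theorem exists_rEl_mul_nEl (x : qStab dod12 qrt0) : ∃ M, ∃ k < 9, x = rEl M * nEl k := by
  have hbij : Function.Bijective (fun p : GL (Fin 2) (ZMod 3) × qKer => rEl p.1 * p.2) := by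
    refine (Nat.bijective_iff_injective_and_card _).2 ⟨?_, ?_⟩
    · rintro ⟨M, a⟩ ⟨M', b⟩ h
      have h' : rEl M * (a * b⁻¹ : qKer) = rEl M' := by
        show rEl M * (a.1 * b.1⁻¹) = rEl M'
        rw [← mul_assoc, show rEl M * a.1 = rEl M' * b.1 from h, mul_inv_cancel_right]
      obtain ⟨k, hk, he⟩ := (a * b⁻¹).2
      rw [he] at h'
      obtain ⟨rfl, -⟩ := rEl_mul_nEl_eq hk h'
      exact Prod.ext rfl (Subtype.ext (mul_left_cancel h))
    · rw [Nat.card_prod, card_qKer, card_qStab dod12_mem qrt0_mem, Matrix.card_GL_field]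
      simp [Fin.prod_univ_two]
  obtain ⟨⟨M, ⟨_, k, hk, rfl⟩⟩, hx⟩ := hbij.2 x
  exact ⟨M, k, hk, hx.symm⟩

theorem qKer_normal : qKer.Normal := by
  constructor
  rintro _ ⟨k, hk, rfl⟩ x
  obtain ⟨M, l, hl, rfl⟩ := exists_rEl_mul_nEl x
  have hm : nEl l * nEl k * (nEl l)⁻¹ ∈ qKer :=
    mul_mem (mul_mem ⟨l, hl, rfl⟩ ⟨k, hk, rfl⟩) (inv_mem ⟨l, hl, rfl⟩)
  obtain ⟨m, hm', he⟩ := hm
  obtain ⟨m', hm'', he'⟩ := rEl_mul_nEl_mem hm' M
  refine ⟨m', hm'', ?_⟩
  rw [show rEl M * nEl l * nEl k * (rEl M * nEl l)⁻¹ =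
    rEl M * (nEl l * nEl k * (nEl l)⁻¹) * (rEl M)⁻¹ by group, he, he', mul_inv_cancel_right]

/-- The quotient is the full group of invertible matrices. -/
theorem nonempty_quotient :
    letI := qKer_normal
    Nonempty (qStab dod12 qrt0 ⧸ qKer ≃* GL (Fin 2) (ZMod 3)) := by
  letI := qKer_normal
  let ψ : GL (Fin 2) (ZMod 3) →* qStab dod12 qrt0 ⧸ qKer :=
    MonoidHom.mk' (fun M => QuotientGroup.mk (rEl M)) fun M M' => by
      obtain ⟨k, hk, he⟩ := rEl_mul M M'
      have hmem : nEl k ∈ qKer := ⟨k, hk, rfl⟩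
      rw [← QuotientGroup.mk_mul, he, QuotientGroup.mk_mul_of_mem _ hmem]
  refine ⟨(MulEquiv.ofBijective ψ ⟨fun M M' h => ?_, fun x => ?_⟩).symm⟩
  · obtain ⟨k, hk, he⟩ := QuotientGroup.eq.1 (show (QuotientGroup.mk (rEl M) : _ ⧸ qKer) =
      QuotientGroup.mk (rEl M') from h)
    exact (rEl_mul_nEl_eq hk (by rw [← he, mul_inv_cancel_left])).1
  · induction x using QuotientGroup.induction_on with
    | H x =>
      obtain ⟨M, k, hk, rfl⟩ := exists_rEl_mul_nEl x
      exact ⟨M, (QuotientGroup.mk_mul_of_mem _ (show nEl k ∈ qKer from ⟨k, hk, rfl⟩)).symm⟩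

theorem exists_move {p q : GolayPt} (hp : p ∈ dod12) (hq : q ∈ dod12) :
    ∃ h : qStab dod12 qrt0, ((h : M24) : Equiv.Perm GolayPt) p = q := by
  rw [dod12, mem_toSet] at hp hq
  have h := allLt_spec (allLt_spec trans_check _ (bit_lt p)) _ (bit_lt q)
  rw [hp, hq, Bool.and_self, Bool.not_true, Bool.false_or, Bool.not_eq_true'] at h
  by_contra hno
  refine absurd (M24Calc.allLt_of_forall fun a ha => ?_) (by rw [h]; exact Bool.false_ne_true)
  by_contra hb
  simp only [Bool.not_eq_true, Bool.or_eq_false_iff, Bool.not_eq_false'] at hb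
  refine absurd (M24Calc.allLt_of_forall fun k hk => ?_) (by rw [hb.2]; exact Bool.false_ne_true)
  by_contra hk'
  simp only [Bool.not_eq_true, Bool.not_eq_false', Nat.beq_eq] at hk'
  refine hno ⟨el (rcode a) * nEl k, bit_injective ?_⟩
  have hg : goodQ (rcode a) = true := by
    have := allLt_spec good_checks.1 a ha
    rwa [hb.1, Bool.not_true, Bool.false_or] at this
  exact (((M24Calc.IsFun.mul (isPermOf_el hg) (isPermOf_nEl hk)) p)).symm.trans hk'

/-! ### Moving to the standard quartet -/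

theorem exists_std {d : Finset GolayPt} {Q : Finset (Finset GolayPt)} (hd : d ∈ dodecads)
    (hQ : Q ∈ quartets d) : ∃ g ∈ M24, g • dod12 = d ∧ g • qrt0 = Q := by
  obtain ⟨g, hg, hgd⟩ := exists_smul_dodecad dod12_mem hd
  have hq := smul_mem_quartets hg qrt0_mem
  rw [hgd] at hq
  obtain ⟨h, hh, hhd, hhQ⟩ := exists_map_quartet hd hq hQ
  exact ⟨h * g, mul_mem hh hg, by rw [mul_smul, hgd, hhd], by rw [mul_smul, hhQ]⟩

theorem map_qStab (g : M24) (d : Finset GolayPt) (Q : Finset (Finset GolayPt)) :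
    (qStab d Q).map (MulAut.conj g).toMonoidHom = qStab (g • d) (g • Q) := by
  rw [Subgroup.map_inf _ _ _ (MulAut.conj g).injective, qStab,
    MulAction.stabilizer_smul_eq_stabilizer_map_conj, MulAction.stabilizer_smul_eq_stabilizer_map_conj]

/-- Conjugation onto a given stabiliser. -/
noncomputable def conjEquiv (g : M24) (d : Finset GolayPt) (Q : Finset (Finset GolayPt)) :
    qStab d Q ≃* qStab (g • d) (g • Q) :=
  ((MulAut.conj g).subgroupMap (qStab d Q)).trans (MulEquiv.subgroupCongr (map_qStab g d Q))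

end CfsgLib.M24Cert
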