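import Cfsg.Agent.Lib.M24Cert.M12Sub
import Cfsg.Agent.Lib.M24Cert.QuartetStab

/-!
Involutions of the stabiliser of a point and a dodecad, and their centralisers.
-/

set_option autoImplicit false

namespace CfsgLib.M24Cert

open Cfsg CfsgLib.Golay
open scoped Pointwise MatrixGroups

theorem inv0_check :
    good12 [some 3, some 2, some 1, some 0] inv0 = true ∧
    M24Calc.eqF (fun j => app inv0 (app inv0 j)) id = true ∧
    M24Calc.eqF (app inv0) id = false ∧
    Nat.beq (M24Calc.fixMask (app inv0) &&& 340830) 14 = true := by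
  decide +kernel

theorem inv0_unique : L12four.all (fun c => M24Calc.eqF (app c) id ||
    (!M24Calc.eqF (fun j => app c (app c j)) id || M24Calc.eqF (app c) (app inv0))) = true := by
  decide +kernel

theorem swap_check : good12 [some 0] swapOneTwo = true ∧ app swapOneTwo 1 = 2 ∧
    app swapOneTwo 2 = 1 := by
  decide +kernel

theorem four_fixed : L12three.all (fun a => L12four.all fun b =>
    !M24Calc.eqF (fun j => app swapOneTwo (app a (app b (app swapOneTwo (app a (app b j)))))) id ||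
      Nat.beq (pc24 (M24Calc.fixMask (fun j => app swapOneTwo (app a (app b j))) &&& 340830)) 3)
    = true := by
  decide +kernel

theorem gl_check : allLt 81 (fun i => !invertible i ||
    (good12 [some 0] (glThree.getD i 0) &&
      Nat.beq (push (glThree.getD i 0) 14) 14 &&
      (Nat.beq i 28 == M24Calc.eqF (app (glThree.getD i 0)) id) &&
      M24Calc.commF (app (glThree.getD i 0)) (app inv0) &&
      allLt 81 fun j => !invertible j || M24Calc.eqF (app (glThree.getD (mulIdx i j) 0))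
        (fun x => app (glThree.getD i 0) (app (glThree.getD j 0) x)))) = true := by
  decide +kernel

theorem gl_moves : allLt 4 (fun a => allLt 4 fun b => allLt 4 fun c =>
    Nat.beq a 0 || Nat.beq b 0 || Nat.beq c 0 || Nat.beq a b || Nat.beq a c || Nat.beq b c ||
    !allLt 81 fun i => !(invertible i && Nat.beq (app (glThree.getD i 0) 1) a &&
      Nat.beq (app (glThree.getD i 0) 2) b && Nat.beq (app (glThree.getD i 0) 3) c)) = true := by
  decide +kernel

theorem gl_four : L12four.all (fun c => !allLt 81 fun i =>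
    !(invertible i && M24Calc.eqF (app c) (app (glThree.getD i 0)))) = true := by
  decide +kernel

/-- The stabiliser of the base point and the triple of the next three. -/
noncomputable def triStab : Subgroup (Equiv.Perm GolayPt) :=
  fixPts Spor.M12 [some 0] ⊓ MulAction.stabilizer (Equiv.Perm GolayPt) (toSet 14)

/-- The standard involution. -/
noncomputable def x0 : Equiv.Perm GolayPt := M24Calc.ofCode inv0

theorem glEl_spec {i : ℕ} (hi : i < 81) (h : invertible i = true) :
    M24Calc.ofCode (glThree.getD i 0) ∈ triStab ∧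
    M24Calc.IsFun (M24Calc.ofCode (glThree.getD i 0)) (app (glThree.getD i 0)) ∧
    (M24Calc.ofCode (glThree.getD i 0) = 1 ↔ i = 28) ∧
    Commute (M24Calc.ofCode (glThree.getD i 0)) x0 := by
  have h' := allLt_spec gl_check i hi
  rw [h, Bool.not_true, Bool.false_or] at h'
  simp only [Bool.and_eq_true, Nat.beq_eq, beq_iff_eq] at h'
  obtain ⟨⟨⟨⟨hg, hp⟩, hone⟩, hc⟩, -⟩ := h'
  have hf := isFun_of_good12 hg
  refine ⟨⟨mem_of_good12 hg, ?_⟩, hf, ?_, M24Calc.commute_of_commF hf (isFun_of_good12 inv0_check.1) hc⟩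
  · show M24Calc.ofCode (glThree.getD i 0) • toSet 14 = toSet 14
    rw [← toSet_push (hf : IsPermOf _ _), hp]
  · constructor
    · intro e
      rw [M24Calc.eqF_of_eq hf M24Calc.IsFun.one e] at hone
      exact Nat.eq_of_beq_eq_true hone
    · rintro rfl
      exact M24Calc.eq_of_eqF hf M24Calc.IsFun.one (by rw [← hone]; rfl)

/-- The map on matrices. -/
noncomputable def glMap (M : GL (Fin 2) (ZMod 3)) : Equiv.Perm GolayPt :=
  M24Calc.ofCode (glThree.getD (idx (M : Matrix (Fin 2) (Fin 2) (ZMod 3))) 0)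

theorem idx_one : idx (1 : Matrix (Fin 2) (Fin 2) (ZMod 3)) = 28 := by decide +kernel

/-- The homomorphism. -/
noncomputable def glHom : GL (Fin 2) (ZMod 3) →* Equiv.Perm GolayPt :=
  MonoidHom.mk' glMap fun M M' => by
    have h := allLt_spec gl_check _ (idx_lt (M : Matrix (Fin 2) (Fin 2) (ZMod 3)))
    rw [invertible_idx, Bool.not_true, Bool.false_or] at h
    simp only [Bool.and_eq_true] at h
    have h' := allLt_spec h.2 _ (idx_lt (M' : Matrix (Fin 2) (Fin 2) (ZMod 3)))
    rw [invertible_idx, Bool.not_true, Bool.false_or] at h'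
    refine M24Calc.eq_of_eqF (glEl_spec (idx_lt _) (invertible_idx _)).2.1
      ((glEl_spec (idx_lt _) (invertible_idx M)).2.1.mul (glEl_spec (idx_lt _) (invertible_idx M')).2.1) ?_
    rw [Units.val_mul, idx_mul]
    exact h'

theorem glHom_injective : Function.Injective glHom :=
  (injective_iff_map_eq_one glHom).2 fun M hM =>
    Units.ext (idx_injective (((glEl_spec (idx_lt _) (invertible_idx M)).2.2.1.1 hM).trans idx_one.symm))

theorem exists_gl {i : ℕ} (hi : i < 81) (h : invertible i = true) :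
    ∃ M : GL (Fin 2) (ZMod 3), idx (M : Matrix (Fin 2) (Fin 2) (ZMod 3)) = i := by
  let A : Matrix (Fin 2) (Fin 2) (ZMod 3) :=
    !![((i % 3 : ℕ) : ZMod 3), ((i / 3 % 3 : ℕ) : ZMod 3); ((i / 9 % 3 : ℕ) : ZMod 3),
      ((i / 27 % 3 : ℕ) : ZMod 3)]
  have hA : idx A = i := by
    simp only [idx, A, Matrix.of_apply, Matrix.cons_val', Matrix.cons_val_zero, Matrix.cons_val_one,
      Matrix.cons_val_fin_one, ZMod.val_natCast]
    omega
  have hdet : A.det ≠ 0 := by
    rw [Matrix.det_fin_two, ← entry_facts]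
    show invertible (idx A) = true
    rw [hA]; exact h
  exact ⟨Matrix.GeneralLinearGroup.mkOfDetNeZero A hdet, hA⟩

theorem exists_of_not_all {k : ℕ} {f : ℕ → Bool} (h : (!allLt k fun i => !f i) = true) :
    ∃ i < k, f i = true := exists_of_allLt h

theorem range_glHom : glHom.range = triStab := by
  refine le_antisymm ?_ fun g hg => ?_
  · rintro _ ⟨M, rfl⟩; exact (glEl_spec (idx_lt _) (invertible_idx M)).1
  have hfix : fixPts Spor.M12 [some 3, some 2, some 1, some 0] ≤ glHom.range := fun r hr => by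
    obtain ⟨c, hc, hrf⟩ := enum12four hr
    obtain ⟨i, hi, h⟩ := exists_of_not_all (List.all_eq_true.1 gl_four c hc)
    rw [Bool.and_eq_true] at h
    obtain ⟨M, hM⟩ := exists_gl hi h.1
    refine ⟨M, (M24Calc.eq_of_eqF hrf (glEl_spec hi h.1).2.1 h.2).trans ?_ |>.symm⟩
    show _ = glMap M
    rw [glMap, hM]
  obtain ⟨hg11, hgT⟩ := hg
  have hgT' : g • toSet 14 = toSet 14 := hgT
  have hm : ∀ p : GolayPt, p ∈ toSet 14 → bit (g p) < 4 ∧ bit (g p) ≠ 0 := fun p hp => by
    have : g p ∈ toSet 14 := by rw [← hgT']; exact Finset.smul_mem_smul_finset hp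
    exact (by decide +kernel : ∀ q : GolayPt, q ∈ toSet 14 → bit q < 4 ∧ bit q ≠ 0) _ this
  have h1 := hm (some 1) (by decide +kernel)
  have h2 := hm (some 2) (by decide +kernel)
  have h3 := hm (some 3) (by decide +kernel)
  have n12 : bit (g (some 1)) ≠ bit (g (some 2)) := fun e => absurd (g.injective (bit_injective e)) (by decide)
  have n13 : bit (g (some 1)) ≠ bit (g (some 3)) := fun e => absurd (g.injective (bit_injective e)) (by decide)
  have n23 : bit (g (some 2)) ≠ bit (g (some 3)) := fun e => absurd (g.injective (bit_injective e)) (by decide)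
  have h := allLt_spec (allLt_spec (allLt_spec gl_moves _ h1.1) _ h2.1) _ h3.1
  simp only [Bool.or_eq_true, Nat.beq_eq, h1.2, h2.2, h3.2, n12, n13, n23, false_or] at h
  obtain ⟨i, hi, h⟩ := exists_of_not_all h
  simp only [Bool.and_eq_true, Nat.beq_eq] at h
  obtain ⟨⟨⟨hinv, e1⟩, e2⟩, e3⟩ := h
  obtain ⟨M, hM⟩ := exists_gl hi hinv
  obtain ⟨⟨ht11, -⟩, hf, -⟩ := glEl_spec hi hinv
  set t := M24Calc.ofCode (glThree.getD i 0) with ht
  have eq1 : t (some 1) = g (some 1) := bit_injective (by rw [← hf]; exact e1)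
  have eq2 : t (some 2) = g (some 2) := bit_injective (by rw [← hf]; exact e2)
  have eq3 : t (some 3) = g (some 3) := bit_injective (by rw [← hf]; exact e3)
  have hr : t⁻¹ * g ∈ fixPts Spor.M12 [some 3, some 2, some 1, some 0] := by
    simp only [mem_fixPts, List.forall_mem_cons, Equiv.Perm.mul_apply, ← eq1, ← eq2, ← eq3,
      perm_inv_apply, true_and]
    refine ⟨mul_mem (inv_mem ht11.1) hg11.1, ?_, by simp⟩
    rw [hg11.2 _ (List.mem_singleton_self _)]
    conv_lhs => rw [← ht11.2 _ (List.mem_singleton_self (some 0 : GolayPt))]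
    exact perm_inv_apply _ _
  have htr : t ∈ glHom.range := ⟨M, by show glMap M = t; rw [glMap, hM]⟩
  simpa using mul_mem htr (hfix hr)

/-- The triple stabiliser is a general linear group. -/
theorem nonempty_glThree : Nonempty (↥triStab ≃* GL (Fin 2) (ZMod 3)) :=
  ⟨((MonoidHom.ofInjective glHom_injective).trans (MulEquiv.subgroupCongr range_glHom)).symm⟩

theorem x0_mem : x0 ∈ fixPts Spor.M12 [some 0] := by
  have := mem_of_good12 inv0_check.1
  exact ⟨this.1, fun p hp => this.2 p (by rw [List.mem_singleton] at hp; subst hp; simp)⟩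

theorem commute_iff {g : Equiv.Perm GolayPt} (hg : g ∈ fixPts Spor.M12 [some 0]) :
    Commute g x0 ↔ g ∈ triStab := by
  constructor
  · intro hc
    refine ⟨hg, ?_⟩
    have hf := isFun_of_good12 inv0_check.1
    have hT : toSet 14 = (Finset.univ.filter fun p => x0 p = p) ∩ toSet 340830 := by
      rw [x0, ← M24Calc.toSet_fixMask hf, ← toSet_and, Nat.eq_of_beq_eq_true inv0_check.2.2.2]
    show g • toSet 14 = toSet 14
    refine Finset.eq_of_subset_of_card_le (fun q hq => ?_) (Finset.card_smul_finset _ _).ge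
    obtain ⟨p, hp, rfl⟩ := Finset.mem_smul_finset.1 hq
    rw [hT, Finset.mem_inter, Finset.mem_filter] at hp ⊢
    have hD : ∀ q : GolayPt, q ∈ toSet 340830 ↔ q ∈ Spor.squareDodecad ∧ q ≠ some 0 := by
      rw [squareDodecad_eq]; decide +kernel
    obtain ⟨hpD, hp0⟩ := (hD p).1 hp.2
    refine ⟨⟨Finset.mem_univ _, ?_⟩, (hD _).2 ⟨(M12_apply_mem hg.1 p).2 hpD, fun e => hp0 ?_⟩⟩
    · show x0 (g p) = g p
      rw [← Equiv.Perm.mul_apply, ← hc.eq, Equiv.Perm.mul_apply, hp.1.2]
    · apply g.injective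
      rw [hg.2 _ (List.mem_singleton_self _)]
      exact e
  · intro hg'
    rw [← range_glHom] at hg'
    obtain ⟨M, rfl⟩ := hg'
    exact (glEl_spec (idx_lt _) (invertible_idx M)).2.2.2

/-- Every involution is conjugate to the standard one. -/
theorem exists_conj_x0 {y : Equiv.Perm GolayPt} (hy : y ∈ fixPts Spor.M12 [some 0])
    (h2 : y * y = 1) (h1 : y ≠ 1) : ∃ h ∈ fixPts Spor.M12 [some 0], h * y * h⁻¹ = x0 := by
  have hd : Spor.squareDodecad ∈ dodecads := squareDodecad_mem
  have hy0 : y (some 0) = some 0 := hy.2 _ (List.mem_singleton_self _)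
  have hD0 : (some 0 : GolayPt) ∈ Spor.squareDodecad := by rw [squareDodecad_eq]; decide +kernel
  -- a moved point
  obtain ⟨a, haD, hay⟩ : ∃ a ∈ Spor.squareDodecad, y a ≠ a := by
    by_contra hno
    push Not at hno
    refine h1 (Subgroup.mem_bot.1 (fixPts_base12 ▸ ⟨hy.1, fun p hp => hno p ?_⟩))
    rw [squareDodecad_eq]
    exact (by decide +kernel : ∀ p ∈ [(some 4 : GolayPt), some 3, some 2, some 1, some 0],
      p ∈ toSet 340831) p hp
  have ha0 : a ≠ some 0 := fun e => hay (by rw [e, hy0])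
  have hb0 : y a ≠ some 0 := fun e => ha0 (y.injective (e.trans hy0.symm))
  obtain ⟨u, hu, hud, hum⟩ := exists_std_points hd [some 0, a, y a]
    (by simp [ha0.symm, hb0.symm, Ne.symm hay]) (by simp)
    (by simp [hD0, haD, (M12_apply_mem hy.1 a).2 haD])
  simp [base12] at hum
  obtain ⟨u0, u1, u2⟩ := hum
  have huM : u ∈ fixPts Spor.M12 [some 0] := ⟨mem_M12.2 ⟨hu, hud⟩, fun p hp => by
    rw [List.mem_singleton] at hp; rw [hp, u0]⟩
  set y₁ := u⁻¹ * y * u with hy₁
  have hy₁m : y₁ ∈ fixPts Spor.M12 [some 0] := mul_mem (mul_mem (inv_mem huM) hy) huM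
  have hy₁sq : y₁ * y₁ = 1 := by
    rw [hy₁, show u⁻¹ * y * u * (u⁻¹ * y * u) = u⁻¹ * (y * y) * u by group, h2]; group
  have e12 : y₁ (some 1) = some 2 := by
    rw [hy₁, Equiv.Perm.mul_apply, Equiv.Perm.mul_apply, u1, ← u2, perm_inv_apply]
  have e21 : y₁ (some 2) = some 1 := by
    rw [← e12, ← Equiv.Perm.mul_apply, hy₁sq, Equiv.Perm.one_apply]
  obtain ⟨hsg, s1, s2⟩ := swap_check
  set c := M24Calc.ofCode swapOneTwo with hc
  have hcm : c ∈ fixPts Spor.M12 [some 0] := mem_of_good12 hsg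
  have c12 : c (some 1) = some 2 := bit_injective (by rw [← isFun_of_good12 hsg]; exact s1)
  have c21 : c (some 2) = some 1 := bit_injective (by rw [← isFun_of_good12 hsg]; exact s2)
  have hr : c⁻¹ * y₁ ∈ fixPts Spor.M12 [some 2, some 1, some 0] := by
    simp only [mem_fixPts, List.forall_mem_cons, Equiv.Perm.mul_apply]
    refine ⟨mul_mem (inv_mem hcm.1) hy₁m.1, ?_, ?_, ?_, by simp⟩
    · rw [e21, ← c21, perm_inv_apply]
    · rw [e12, ← c12, perm_inv_apply]
    · rw [hy₁m.2 _ (List.mem_singleton_self _)]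
      conv_lhs => rw [← hcm.2 _ (List.mem_singleton_self (some 0 : GolayPt))]
      exact perm_inv_apply _ _
  obtain ⟨a3, ha3, b4, hb4, hrf⟩ := enum12three hr
  have hy₁f : M24Calc.IsFun y₁ (fun j => app swapOneTwo (app a3 (app b4 j))) := by
    have := (isFun_of_good12 hsg).mul hrf
    rwa [← hc, mul_inv_cancel_left] at this
  have hscan := List.all_eq_true.1 (List.all_eq_true.1 four_fixed a3 ha3) b4 hb4
  have hsqf := M24Calc.eqF_of_eq (hy₁f.mul hy₁f) M24Calc.IsFun.one hy₁sq
  rw [show M24Calc.eqF (fun j => app swapOneTwo (app a3 (app b4 (app swapOneTwo (app a3 (app b4 j))))))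
    id = true from hsqf, Bool.not_true, Bool.false_or, Nat.beq_eq, pc24_eq, ← card_toSet, toSet_and,
    M24Calc.toSet_fixMask hy₁f] at hscan
  obtain ⟨e1, e2, e3, n12, n13, n23, heq⟩ := Finset.card_eq_three.1 hscan
  have hmem : ∀ e ∈ ({e1, e2, e3} : Finset GolayPt),
      y₁ e = e ∧ e ∈ Spor.squareDodecad ∧ e ≠ some 0 := by
    intro e he
    rw [← heq, Finset.mem_inter, Finset.mem_filter] at he
    refine ⟨he.1.2, ?_⟩
    rw [squareDodecad_eq]
    exact (by decide +kernel : ∀ q : GolayPt, q ∈ toSet 340830 →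
      q ∈ toSet 340831 ∧ q ≠ some 0) e he.2
  obtain ⟨f1, d1, z1⟩ := hmem e1 (by simp)
  obtain ⟨f2, d2, z2⟩ := hmem e2 (by simp)
  obtain ⟨f3, d3, z3⟩ := hmem e3 (by simp)
  obtain ⟨v, hv, hvd, hvm⟩ := exists_std_points hd [some 0, e1, e2, e3]
    (by simp [z1.symm, z2.symm, z3.symm, n12, n13, n23]) (by simp) (by simp [hD0, d1, d2, d3])
  simp [base12] at hvm
  obtain ⟨v0, v1, v2, v3⟩ := hvm
  have hvM : v ∈ fixPts Spor.M12 [some 0] := ⟨mem_M12.2 ⟨hv, hvd⟩, fun p hp => by
    rw [List.mem_singleton] at hp; rw [hp, v0]⟩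
  set y₂ := v⁻¹ * y₁ * v with hy₂
  have hy₂sq : y₂ * y₂ = 1 := by
    rw [hy₂, show v⁻¹ * y₁ * v * (v⁻¹ * y₁ * v) = v⁻¹ * (y₁ * y₁) * v by group, hy₁sq]; group
  have hy₂ne : y₂ ≠ 1 := fun e => h1 (by
    have h' : y = u * (v * y₂ * v⁻¹) * u⁻¹ := by rw [hy₂, hy₁]; group
    rw [h', e]; group)
  have hy₂m : y₂ ∈ fixPts Spor.M12 [some 3, some 2, some 1, some 0] := by
    have hm : y₂ ∈ fixPts Spor.M12 [some 0] := mul_mem (mul_mem (inv_mem hvM) hy₁m) hvM
    simp only [mem_fixPts, List.forall_mem_cons]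
    refine ⟨hm.1, ?_, ?_, ?_, hm.2 _ (List.mem_singleton_self _), by simp⟩
    · rw [hy₂, Equiv.Perm.mul_apply, Equiv.Perm.mul_apply, v3, f3, ← v3, perm_inv_apply]
    · rw [hy₂, Equiv.Perm.mul_apply, Equiv.Perm.mul_apply, v2, f2, ← v2, perm_inv_apply]
    · rw [hy₂, Equiv.Perm.mul_apply, Equiv.Perm.mul_apply, v1, f1, ← v1, perm_inv_apply]
  obtain ⟨c4, hc4, hf4⟩ := enum12four hy₂m
  have h4 := List.all_eq_true.1 inv0_unique c4 hc4
  simp only [Bool.or_eq_true, Bool.not_eq_true'] at h4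
  rcases h4 with h4 | h4 | h4
  · exact absurd (M24Calc.eq_of_eqF hf4 M24Calc.IsFun.one h4) hy₂ne
  · exact absurd h4 (by
      rw [show M24Calc.eqF (fun j => app c4 (app c4 j)) id = true from
        M24Calc.eqF_of_eq (hf4.mul hf4) M24Calc.IsFun.one hy₂sq]
      simp)
  · refine ⟨v⁻¹ * u⁻¹, mul_mem (inv_mem hvM) (inv_mem huM), ?_⟩
    rw [show x0 = y₂ from (M24Calc.eq_of_eqF hf4 (isFun_of_good12 inv0_check.1) h4).symm, hy₂, hy₁]
    group

end CfsgLib.M24Cert
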