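import Cfsg.Agent.Lib.KGV.M24Calc
import Cfsg.Agent.Lib.Golay.Mathieu
import Cfsg.Agent.Lib.M24Cert.DataM11

/-!
Subgroups of the stabiliser of a dodecad: standardisation and coded elements.
-/

set_option autoImplicit false

namespace CfsgLib.M24Cert

open Cfsg CfsgLib.Golay
open scoped Pointwise

/-- Multiplicativity needs to be checked on generators only. -/
theorem map_mul_of_gens {G H : Type*} [Group G] [Group H] {f : G → H} {S : Set G}
    (hS : Subgroup.closure S = ⊤) (h1 : f 1 = 1) (h : ∀ g, ∀ s ∈ S, f (g * s) = f g * f s) :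
    ∀ a b, f (a * b) = f a * f b := by
  intro a b
  have hb : b ∈ Subgroup.closure S := hS ▸ Subgroup.mem_top b
  induction hb using Subgroup.closure_induction generalizing a with
  | mem s hs => exact h a s hs
  | one => rw [mul_one, h1, mul_one]
  | mul x y _ _ hx hy => rw [← mul_assoc, hy, hx, hy x, mul_assoc]
  | inv x _ hx =>
    have e1 := hx (a * x⁻¹)
    have e2 := hx x⁻¹
    rw [inv_mul_cancel_right] at e1
    rw [inv_mul_cancel, h1] at e2
    rw [eq_inv_of_mul_eq_one_left e2.symm, e1, mul_inv_cancel_right]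

/-- A valid code stabilising the standard dodecad and fixing the listed points. -/
noncomputable def good12 (l : List GolayPt) (c : ℕ) : Bool :=
  M24Calc.good c && keeps12 c && l.all fun x => Nat.beq (app c (bit x)) (bit x)

theorem mem_of_good12 {l : List GolayPt} {c : ℕ} (h : good12 l c = true) :
    M24Calc.ofCode c ∈ fixPts Spor.M12 l := by
  simp only [good12, keeps12, Bool.and_eq_true, Nat.beq_eq, List.all_eq_true] at h
  obtain ⟨⟨hg, hk⟩, hl⟩ := h
  have hf : IsPermOf (M24Calc.ofCode c) c := M24Calc.isFun_of_good hg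
  refine ⟨mem_M12.2 ⟨M24Calc.mem_of_good hg, ?_⟩, fun x hx => bit_injective ?_⟩
  · rw [squareDodecad_eq, ← toSet_push hf, hk]
  · rw [← hf x]; exact hl x hx

theorem isFun_of_good12 {l : List GolayPt} {c : ℕ} (h : good12 l c = true) :
    M24Calc.IsFun (M24Calc.ofCode c) (app c) := by
  simp only [good12, Bool.and_eq_true] at h
  exact M24Calc.isFun_of_good h.1.1

/-- The transversal for the fourth base point of `M12`. -/
def L12three : List ℕ := (Data.trans12.getD 3 []).map slpAt

/-- The transversal for the fifth base point of `M12`. -/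
def L12four : List ℕ := (Data.trans12.getD 4 []).map slpAt

theorem L12_checks :
    levelCheck (fun c => keeps12 c && L12three.any (Nat.beq c)) [some 2, some 1, some 0] (some 3)
      340824 (Data.trans12.getD 3 []) = true ∧
    levelCheck (fun c => keeps12 c && L12four.any (Nat.beq c)) [some 3, some 2, some 1, some 0]
      (some 4) 340816 (Data.trans12.getD 4 []) = true := by
  decide +kernel

theorem step12 {L : List ℕ} {fixed : List GolayPt} {b : GolayPt} {Δ : ℕ} {idx : List ℕ}
    (h : levelCheck (fun c => keeps12 c && L.any (Nat.beq c)) fixed b Δ idx = true)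
    (hup : ∀ g ∈ fixPts Spor.M12 fixed, g b ∈ toSet Δ) {g : Equiv.Perm GolayPt}
    (hg : g ∈ fixPts Spor.M12 fixed) :
    ∃ c ∈ L, ∃ σ r, M24Calc.IsFun σ (app c) ∧ r ∈ fixPts Spor.M12 (b :: fixed) ∧ g = σ * r := by
  obtain ⟨σ, c, hσ, hc, hext, hfix, hb⟩ := levelCheck_spec h (hup g hg)
  rw [Bool.and_eq_true] at hext
  obtain ⟨e, he, hec⟩ := List.any_eq_true.1 hext.2
  obtain rfl := Nat.eq_of_beq_eq_true hec
  refine ⟨c, he, σ, σ⁻¹ * g, hc, ?_, by group⟩
  have hσ12 : σ ∈ fixPts Spor.M12 fixed := ⟨mem_M12.2 ⟨genGroup_le hσ, by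
    rw [squareDodecad_eq, ← toSet_push hc, Nat.eq_of_beq_eq_true hext.1]⟩, hfix⟩
  rw [fixPts_cons, Subgroup.mem_inf, MulAction.mem_stabilizer_iff, Equiv.Perm.smul_def,
    Equiv.Perm.mul_apply, ← hb, perm_inv_apply]
  exact ⟨mul_mem (inv_mem hσ12) hg, rfl⟩

theorem enum12four {g : Equiv.Perm GolayPt}
    (hg : g ∈ fixPts Spor.M12 [some 3, some 2, some 1, some 0]) :
    ∃ c ∈ L12four, M24Calc.IsFun g (app c) := by
  obtain ⟨c, hc, σ, r, hσ, hr, rfl⟩ :=
    step12 L12_checks.2 (up12 mask12_eqs.2.2.2.2.1 (by decide +kernel)) hg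
  rw [fixPts_base12, Subgroup.mem_bot] at hr
  exact ⟨c, hc, by rw [hr, mul_one]; exact hσ⟩

theorem enum12three {g : Equiv.Perm GolayPt} (hg : g ∈ fixPts Spor.M12 [some 2, some 1, some 0]) :
    ∃ a ∈ L12three, ∃ b ∈ L12four, M24Calc.IsFun g (fun j => app a (app b j)) := by
  obtain ⟨a, ha, σ, r, hσ, hr, rfl⟩ :=
    step12 L12_checks.1 (up12 mask12_eqs.2.2.2.1 (by decide +kernel)) hg
  obtain ⟨b, hb, hbf⟩ := enum12four hr
  exact ⟨a, ha, b, hb, hσ.mul hbf⟩

theorem card_fix12_three : Nat.card (fixPts Spor.M12 [some 2, some 1, some 0]) = 72 := by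
  obtain ⟨-, -, -, c3, c4, -⟩ := level12_checks
  obtain ⟨-, -, -, m3, m4, -⟩ := mask12_eqs
  rw [card_fixPts_step (up12 (b := some 3) m3 (by decide +kernel)) (low12 c3),
    card_fixPts_step (up12 (b := some 4) m4 (by decide +kernel)) (low12 c4), fixPts_base12,
    Nat.card_unique, card_toSet, card_toSet, ← pc24_eq, ← pc24_eq]
  decide +kernel

theorem card_fix11_one : Nat.card (fixPts Spor.M12 [none, some 0]) = 660 := by
  obtain ⟨-, -, -, -, -, c, -⟩ := level12_checks
  obtain ⟨-, -, -, -, -, m, -⟩ := mask12_eqs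
  have h := card_fixPts_step (up12c (b := none) m (by decide +kernel)) (low12 c)
  rw [← spor_M11_eq, card_M11, card_toSet, ← pc24_eq,
    show pc24 16436384 = 12 by decide +kernel] at h
  omega

theorem card_fix11_two : Nat.card (fixPts Spor.M12 [some 5, none, some 0]) = 60 := by
  obtain ⟨-, -, -, -, -, -, c, -⟩ := level12_checks
  obtain ⟨-, -, -, -, -, -, m, -⟩ := mask12_eqs
  have h := card_fixPts_step (up12c (b := some 5) m (by decide +kernel)) (low12 c)
  rw [card_fix11_one, card_toSet, ← pc24_eq, show pc24 8047776 = 11 by decide +kernel] at h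
  omega

/-! ### Standardisation -/

theorem exists_std_points {d : Finset GolayPt} (hd : d ∈ dodecads) (xs : List GolayPt)
    (hn : xs.Nodup) (hlen : xs.length ≤ 5) (hsub : ∀ x ∈ xs, x ∈ d) :
    ∃ g ∈ M24, g • Spor.squareDodecad = d ∧ (base12.take xs.length).map g = xs := by
  obtain ⟨s, hs, hsd⟩ := exists_smul_dodecad squareDodecad_mem hd
  obtain ⟨u, hu, huc⟩ : ∃ u : Finset GolayPt, u ⊆ d \ xs.toFinset ∧ u.card = 5 - xs.length := by
    refine Finset.exists_subset_card_eq ?_
    rw [Finset.card_sdiff_of_subset (fun x hx => hsub x (List.mem_toFinset.1 hx)), hd.2,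
      List.toFinset_card_of_nodup hn]
    omega
  have hnd : (xs ++ u.toList).Nodup := List.nodup_append.2 ⟨hn, u.nodup_toList,
    fun a ha b hb hab => (Finset.mem_sdiff.1 (hu (Finset.mem_toList.1 hb))).2
      (List.mem_toFinset.2 (hab ▸ ha))⟩
  obtain ⟨h, hh, hhm⟩ := exists_map_base12 ((xs ++ u.toList).map ⇑s⁻¹)
    (hnd.map (Equiv.injective _)) (by simp [huc]; omega) (fun y hy => by
      obtain ⟨z, hz, rfl⟩ := List.mem_map.1 hy
      show s⁻¹ • z ∈ Spor.squareDodecad
      rw [Finset.inv_smul_mem_iff, hsd]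
      rcases List.mem_append.1 hz with hz | hz
      · exact hsub z hz
      · exact (Finset.mem_sdiff.1 (hu (Finset.mem_toList.1 hz))).1)
  refine ⟨s * h, mul_mem hs (mem_M12.1 hh).1, by rw [mul_smul, (mem_M12.1 hh).2, hsd], ?_⟩
  have e : base12.map ⇑(s * h) = xs ++ u.toList := by
    rw [show base12.map ⇑(s * h) = (base12.map ⇑h).map ⇑s by rw [List.map_map]; rfl, hhm,
      List.map_map]
    conv_rhs => rw [← List.map_id (xs ++ u.toList)]
    exact List.map_congr_left fun z _ => perm_apply_inv s z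
  rw [List.map_take, e, List.take_left]

theorem exists_std_outside {d : Finset GolayPt} (hd : d ∈ dodecads) {p : GolayPt} (hp : p ∈ d)
    (xs : List GolayPt) (hn : xs.Nodup) (hlen : xs.length ≤ 3) (hsub : ∀ x ∈ xs, x ∉ d) :
    ∃ g ∈ M24, g • Spor.squareDodecad = d ∧ g (some 0) = p ∧
      ([(none : GolayPt), some 5, some 7].take xs.length).map g = xs := by
  obtain ⟨s, hs, hsd, hsp⟩ := exists_smul_dodecad_point hd hp
  obtain ⟨u, hu, huc⟩ : ∃ u : Finset GolayPt, u ⊆ dᶜ \ xs.toFinset ∧ u.card = 3 - xs.length := by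
    refine Finset.exists_subset_card_eq ?_
    rw [Finset.card_sdiff_of_subset (fun x hx => Finset.mem_compl.2 (hsub x (List.mem_toFinset.1 hx))),
      Finset.card_compl, hd.2, List.toFinset_card_of_nodup hn,
      show Fintype.card GolayPt = 24 by decide]
    omega
  have hnd : (xs ++ u.toList).Nodup := List.nodup_append.2 ⟨hn, u.nodup_toList,
    fun a ha b hb hab => (Finset.mem_sdiff.1 (hu (Finset.mem_toList.1 hb))).2
      (List.mem_toFinset.2 (hab ▸ ha))⟩
  obtain ⟨h, hh, hhm⟩ := exists_map_base11 ((xs ++ u.toList).map ⇑s⁻¹)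
    (hnd.map (Equiv.injective _)) (by simp [huc]; omega) (fun y hy hy' => by
      obtain ⟨z, hz, rfl⟩ := List.mem_map.1 hy
      have hz' : z ∈ d := hsd ▸ Finset.inv_smul_mem_iff.1 hy'
      rcases List.mem_append.1 hz with hz | hz
      · exact hsub z hz hz'
      · exact Finset.mem_compl.1 (Finset.mem_sdiff.1 (hu (Finset.mem_toList.1 hz))).1 hz')
  refine ⟨s * h, mul_mem hs (mem_M12.1 hh.1).1, by rw [mul_smul, (mem_M12.1 hh.1).2, hsd],
    by rw [Equiv.Perm.mul_apply, hh.2 _ (List.mem_singleton_self _), hsp], ?_⟩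
  have e : [(none : GolayPt), some 5, some 7].map ⇑(s * h) = xs ++ u.toList := by
    rw [show [(none : GolayPt), some 5, some 7].map ⇑(s * h) =
      ([(none : GolayPt), some 5, some 7].map ⇑h).map ⇑s by rw [List.map_map]; rfl, hhm, List.map_map]
    conv_rhs => rw [← List.map_id (xs ++ u.toList)]
    exact List.map_congr_left fun z _ => perm_apply_inv s z
  rw [List.map_take, e, List.take_left]

theorem conj_fix12 {d : Finset GolayPt} {g : Equiv.Perm GolayPt} (hg : g ∈ M24)
    (hgd : g • Spor.squareDodecad = d) {l l' : List GolayPt} (hl : l.map g = l')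
    (x : Equiv.Perm GolayPt) :
    g * x * g⁻¹ ∈ fixPts (dodStab d) l' ↔ x ∈ fixPts Spor.M12 l := by
  subst hl
  simp only [mem_fixPts, conj_dodStab hg hgd, List.forall_mem_map, Equiv.Perm.mul_apply,
    perm_inv_apply, g.injective.eq_iff]

/-- Conjugation onto the standard position. -/
noncomputable def dodEquiv {d : Finset GolayPt} {g : Equiv.Perm GolayPt} (hg : g ∈ M24)
    (hgd : g • Spor.squareDodecad = d) {l l' : List GolayPt} (hl : l.map g = l') :
    fixPts Spor.M12 l ≃* fixPts (dodStab d) l' :=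
  (MulEquiv.subgroupMap (MulAut.conj g) _).trans
    (MulEquiv.subgroupCongr (map_conj_eq (conj_fix12 hg hgd hl)))

theorem dodStab_le (d : Finset GolayPt) (l : List GolayPt) : fixPts (dodStab d) l ≤ M24 :=
  fun _ h => h.1.1

end CfsgLib.M24Cert
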