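import Cfsg.Agent.Lib.M24Cert.Normalizers
import Cfsg.Agent.Lib.M24Cert.M12Sub

/-!
Groups containing the normaliser of an element of order 11 in the two-point stabiliser, acting on
the 77 blocks through the two points.
-/

set_option autoImplicit false

namespace CfsgLib.M24Cert

open Cfsg CfsgLib.Golay CfsgLib.Comp CfsgLib.M24Elt
open scoped Pointwise

/-- The number of blocks of a list containing a mask. -/
noncomputable def covCount (l : List ℕ) (m : ℕ) : ℕ := (l.filter fun t => Nat.beq (t &&& m) m).length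

theorem hexOrb_cover : allR (fun x => let c := comb x;
    !(Nat.beq (pc24 c) 8 && Nat.beq (c &&& 8388609) 8388609) ||
      (hexOrbA.any (Nat.beq c) || (hexOrbB.any (Nat.beq c) || hexOrbC.any (Nat.beq c)))) 12 0 = true := by
  decide +kernel

theorem hexOrb_ok : (hexOrbA ++ hexOrbB ++ hexOrbC).all (fun t => Nat.blt t 16777216 && memb t &&
    Nat.beq (pc24 t) 8 && Nat.beq (t &&& 8388609) 8388609) = true ∧
    (hexOrbA ++ hexOrbB ++ hexOrbC).Nodup ∧ (hexOrbA ++ hexOrbB ++ hexOrbC).length = 77 := by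
  decide +kernel

theorem hexOrb_orbits :
    hexOrbA.all (fun t => elevenNorm.any fun c => Nat.beq (push c (hexOrbA.headD 0)) t) = true ∧
    hexOrbB.all (fun t => elevenNorm.any fun c => Nat.beq (push c (hexOrbB.headD 0)) t) = true ∧
    hexOrbC.all (fun t => elevenNorm.any fun c => Nat.beq (push c (hexOrbC.headD 0)) t) = true := by
  decide +kernel

theorem hexA_counts : PermCode.allLt 24 (fun j => Nat.beq j 23 || Nat.beq j 0 ||
    ((340830 : ℕ).testBit j == Nat.beq (covCount hexOrbA (2 ^ j)) 5)) = true ∧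
    PermCode.allLt 24 (fun j => Nat.beq j 23 || Nat.beq j 0 ||
    ((340830 : ℕ).testBit j == !Nat.beq (covCount hexOrbB (2 ^ j)) 5)) = true := by
  decide +kernel

/-- Two points have a common partner never covered with either. -/
noncomputable def sameSide (l : List ℕ) (i j : ℕ) : Bool :=
  !PermCode.allLt 24 fun r => Nat.beq r 23 || Nat.beq r 0 ||
    !(Nat.beq (covCount l (2 ^ i ||| 2 ^ r)) 0 && Nat.beq (covCount l (2 ^ j ||| 2 ^ r)) 0)

theorem hexAB_sides : PermCode.allLt 24 (fun i => PermCode.allLt 24 fun j =>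
    Nat.beq i 23 || Nat.beq i 0 || Nat.beq j 23 || Nat.beq j 0 ||
    (sameSide (hexOrbA ++ hexOrbB) i j == ((340830 : ℕ).testBit i == (340830 : ℕ).testBit j)))
      = true := by
  decide +kernel

theorem side_facts : toSet 340830 ∪ {some 0} = Spor.squareDodecad ∧
    toSet 340830 ∪ toSet 8047776 = ((Finset.univ.erase none).erase (some 0) : Finset GolayPt) ∧
    Disjoint (toSet 340830) (toSet 8047776) := by
  rw [squareDodecad_eq]
  decide +kernel

/-- The sets of a list of masks. -/
noncomputable def blocksOf (l : List ℕ) : Finset (Finset GolayPt) := (l.map toSet).toFinset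

theorem covCount_eq {l : List ℕ} (hnd : l.Nodup) (hlt : ∀ t ∈ l, t < 2 ^ 24) {m : ℕ}
    (hm : m < 2 ^ 24) : covCount l m = ((blocksOf l).filter fun s => toSet m ⊆ s).card := by
  rw [blocksOf, covCount, ← List.toFinset_card_of_nodup (hnd.filter _),
    ← Finset.card_image_of_injOn (s := (l.filter _).toFinset) (f := toSet) fun a ha b hb e =>
      toSet_inj (hlt a (List.mem_of_mem_filter (List.mem_toFinset.1 ha)))
        (hlt b (List.mem_of_mem_filter (List.mem_toFinset.1 hb))) e]
  congr 1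
  ext s
  simp only [Finset.mem_image, List.mem_toFinset, List.mem_filter, Nat.beq_eq, Finset.mem_filter,
    List.mem_map]
  have hsub : ∀ t, t &&& m = m ↔ toSet m ⊆ toSet t := fun t => by
    rw [← Finset.inter_eq_right, ← toSet_and]
    exact ⟨fun h => by rw [h], fun h => toSet_inj (lt_of_le_of_lt Nat.and_le_right hm) hm h⟩
  constructor
  · rintro ⟨t, ⟨ht, hc⟩, rfl⟩; exact ⟨⟨t, ht, rfl⟩, (hsub t).1 hc⟩
  · rintro ⟨⟨t, ht, rfl⟩, hc⟩; exact ⟨t, ⟨ht, (hsub t).2 hc⟩, rfl⟩

theorem count_smul {X : Finset (Finset GolayPt)} {g : Equiv.Perm GolayPt} (hX : g • X = X)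
    (s : Finset GolayPt) :
    (X.filter fun t => g • s ⊆ t).card = (X.filter fun t => s ⊆ t).card := by
  have e : g • X = X.image (g • ·) := rfl
  conv_lhs => rw [← hX, e]
  rw [Finset.filter_image, Finset.card_image_of_injective _ (MulAction.injective g)]
  simp only [Finset.smul_finset_subset_smul_finset_iff]

theorem covCount_smul {l : List ℕ} (hnd : l.Nodup) (hlt : ∀ t ∈ l, t < 2 ^ 24)
    {g : Equiv.Perm GolayPt} (hg : g • blocksOf l = blocksOf l) (p q : GolayPt) :
    covCount l (2 ^ bit (g p) ||| 2 ^ bit (g q)) = covCount l (2 ^ bit p ||| 2 ^ bit q) := by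
  have hlt2 : ∀ a b : GolayPt, 2 ^ bit a ||| 2 ^ bit b < 2 ^ 24 := fun a b =>
    Nat.or_lt_two_pow (Nat.pow_lt_pow_right (by norm_num) (bit_lt a))
      (Nat.pow_lt_pow_right (by norm_num) (bit_lt b))
  have hs : ∀ a b : GolayPt, toSet (2 ^ bit a ||| 2 ^ bit b) = {a, b} := fun a b => by
    rw [toSet_or, toSet_two_pow (bit_lt a), toSet_two_pow (bit_lt b), pt_bit, pt_bit]; rfl
  rw [covCount_eq hnd hlt (hlt2 _ _), covCount_eq hnd hlt (hlt2 _ _), hs, hs,
    show ({g p, g q} : Finset GolayPt) = g • ({p, q} : Finset GolayPt) by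
      simp [Finset.smul_finset_insert], count_smul hg]

theorem covCount_smul_one {l : List ℕ} (hnd : l.Nodup) (hlt : ∀ t ∈ l, t < 2 ^ 24)
    {g : Equiv.Perm GolayPt} (hg : g • blocksOf l = blocksOf l) (p : GolayPt) :
    covCount l (2 ^ bit (g p)) = covCount l (2 ^ bit p) := by
  have := covCount_smul hnd hlt hg p p
  rwa [Nat.or_self, Nat.or_self] at this

theorem bit_ne {p : GolayPt} (h : p ≠ none) (h0 : p ≠ some 0) : bit p ≠ 23 ∧ bit p ≠ 0 :=
  ⟨fun e => h (bit_injective (e.trans (by rfl))), fun e => h0 (bit_injective (e.trans (by rfl)))⟩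

theorem apply_ne {g : Equiv.Perm GolayPt} (hg : g ∈ G22) {p : GolayPt} (h : p ≠ none)
    (h0 : p ≠ some 0) : g p ≠ none ∧ g p ≠ some 0 :=
  ⟨fun e => h (g.injective (e.trans (hg.2 none (by simp)).symm)),
    fun e => h0 (g.injective (e.trans (hg.2 (some 0) (by simp)).symm))⟩

theorem nodup_parts : hexOrbA.Nodup ∧ hexOrbB.Nodup ∧ (hexOrbA ++ hexOrbB).Nodup :=
  have h := hexOrb_ok.2.1
  have h' := (List.nodup_append.1 h).1
  ⟨(List.nodup_append.1 h').1, (List.nodup_append.1 h').2.1, h'⟩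

theorem lt_of_mem {l : List ℕ} (hl : ∀ t ∈ l, t ∈ hexOrbA ++ hexOrbB ++ hexOrbC) :
    ∀ t ∈ l, t < 2 ^ 24 := fun t ht => by
  have := List.all_eq_true.1 hexOrb_ok.1 t (hl t ht)
  simp only [Bool.and_eq_true, Nat.blt_eq] at this
  exact this.1.1.1

theorem side_mem_iff {p : GolayPt} : p ∈ toSet 340830 ↔ (340830 : ℕ).testBit (bit p) = true :=
  mem_toSet

theorem smul_side_of_one {l : List ℕ} (hnd : l.Nodup) (hlt : ∀ t ∈ l, t < 2 ^ 24) (b : Bool)
    (hc : PermCode.allLt 24 (fun j => Nat.beq j 23 || Nat.beq j 0 ||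
      ((340830 : ℕ).testBit j == (b == Nat.beq (covCount l (2 ^ j)) 5))) = true)
    {g : Equiv.Perm GolayPt} (hg : g ∈ G22) (hgX : g • blocksOf l = blocksOf l) :
    g • toSet 340830 = toSet 340830 := by
  refine Finset.eq_of_subset_of_card_le (fun q hq => ?_) (Finset.card_smul_finset _ _).ge
  obtain ⟨p, hp, rfl⟩ := Finset.mem_smul_finset.1 hq
  have hne : p ≠ none ∧ p ≠ some 0 :=
    (by decide +kernel : ∀ p ∈ toSet 340830, p ≠ none ∧ p ≠ some 0) p hp
  have hne' := apply_ne hg hne.1 hne.2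
  have h1 := PermCode.allLt_spec hc _ (bit_lt p)
  have h2 := PermCode.allLt_spec hc _ (bit_lt (g p))
  obtain ⟨a1, a2⟩ := bit_ne hne.1 hne.2
  obtain ⟨b1, b2⟩ := bit_ne hne'.1 hne'.2
  simp only [Bool.or_eq_true, Nat.beq_eq, a1, a2, b1, b2, false_or, beq_iff_eq] at h1 h2
  rw [side_mem_iff] at hp
  rw [Equiv.Perm.smul_def, side_mem_iff, h2, covCount_smul_one hnd hlt hgX, ← h1, hp]

theorem sideA {g : Equiv.Perm GolayPt} (hg : g ∈ G22) (hgX : g • blocksOf hexOrbA = blocksOf hexOrbA) :
    g • toSet 340830 = toSet 340830 := by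
  refine smul_side_of_one nodup_parts.1 (lt_of_mem fun t ht => by simp [ht]) true ?_ hg hgX
  refine PermCode.allLt_of fun j hj => ?_
  have := PermCode.allLt_spec hexA_counts.1 j hj
  simpa using this

theorem sideB {g : Equiv.Perm GolayPt} (hg : g ∈ G22) (hgX : g • blocksOf hexOrbB = blocksOf hexOrbB) :
    g • toSet 340830 = toSet 340830 := by
  refine smul_side_of_one nodup_parts.2.1 (lt_of_mem fun t ht => by simp [ht]) false ?_ hg hgX
  refine PermCode.allLt_of fun j hj => ?_
  have := PermCode.allLt_spec hexA_counts.2 j hj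
  revert this
  cases (340830 : ℕ).testBit j <;> cases Nat.beq (covCount hexOrbB (2 ^ j)) 5 <;> simp

theorem sameSide_smul {l : List ℕ} (hnd : l.Nodup) (hlt : ∀ t ∈ l, t < 2 ^ 24)
    {g : Equiv.Perm GolayPt} (hg : g ∈ G22) (hgX : g • blocksOf l = blocksOf l) {p q : GolayPt}
    (h : sameSide l (bit p) (bit q) = true) : sameSide l (bit (g p)) (bit (g q)) = true := by
  simp only [sameSide, Bool.not_eq_true'] at h ⊢
  by_contra hno
  rw [Bool.not_eq_false] at hno
  refine absurd (PermCode.allLt_of fun r hr => ?_) (by rw [h]; exact Bool.false_ne_true)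
  have hb : bit (Golay.pt r) = r := bit_pt hr
  by_cases h1 : r = 23
  · simp [h1]
  by_cases h2 : r = 0
  · simp [h2]
  have hp : Golay.pt r ≠ none := fun e => h1 (by rw [← hb, e]; rfl)
  have hp0 : Golay.pt r ≠ some 0 := fun e => h2 (by rw [← hb, e]; rfl)
  obtain ⟨a1, a2⟩ := bit_ne (apply_ne hg hp hp0).1 (apply_ne hg hp hp0).2
  have h3 := PermCode.allLt_spec hno _ (bit_lt (g (Golay.pt r)))
  rw [covCount_smul hnd hlt hgX, covCount_smul hnd hlt hgX, hb,
    Bool.eq_false_iff.2 (show ¬ Nat.beq (bit (g (Golay.pt r))) 23 = true by simpa using a1),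
    Bool.eq_false_iff.2 (show ¬ Nat.beq (bit (g (Golay.pt r))) 0 = true by simpa using a2),
    Bool.false_or, Bool.false_or] at h3
  rw [h3, Bool.or_true]

theorem sideAB {g : Equiv.Perm GolayPt} (hg : g ∈ G22)
    (hgX : g • blocksOf (hexOrbA ++ hexOrbB) = blocksOf (hexOrbA ++ hexOrbB)) :
    g • toSet 340830 = toSet 340830 ∨ g • toSet 340830 = toSet 8047776 := by
  have hnd := nodup_parts.2.2
  have hlt := lt_of_mem (l := hexOrbA ++ hexOrbB) fun t ht => List.mem_append_left _ ht
  have hne : ∀ p ∈ toSet 340830, p ≠ none ∧ p ≠ some 0 := by decide +kernel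
  have hsides : ∀ {p q : GolayPt}, p ≠ none → p ≠ some 0 → q ≠ none → q ≠ some 0 →
      (sameSide (hexOrbA ++ hexOrbB) (bit p) (bit q) = true ↔ (p ∈ toSet 340830 ↔ q ∈ toSet 340830)) := by
    intro p q p1 p2 q1 q2
    have h := PermCode.allLt_spec (PermCode.allLt_spec hexAB_sides _ (bit_lt p)) _ (bit_lt q)
    obtain ⟨a1, a2⟩ := bit_ne p1 p2
    obtain ⟨b1, b2⟩ := bit_ne q1 q2
    simp only [Bool.or_eq_true, Nat.beq_eq, a1, a2, b1, b2, false_or, beq_iff_eq] at h
    rw [h, side_mem_iff, side_mem_iff]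
    cases (340830 : ℕ).testBit (bit p) <;> cases (340830 : ℕ).testBit (bit q) <;> simp
  have h1 : (some 1 : GolayPt) ∈ toSet 340830 := by decide +kernel
  have hkey : ∀ q ∈ toSet 340830, (g (some 1) ∈ toSet 340830 ↔ g q ∈ toSet 340830) := fun q hq => by
    refine (hsides (apply_ne hg (hne _ h1).1 (hne _ h1).2).1 (apply_ne hg (hne _ h1).1 (hne _ h1).2).2
      (apply_ne hg (hne _ hq).1 (hne _ hq).2).1 (apply_ne hg (hne _ hq).1 (hne _ hq).2).2).1
      (sameSide_smul hnd hlt hg hgX ?_)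
    exact (hsides (hne _ h1).1 (hne _ h1).2 (hne _ hq).1 (hne _ hq).2).2 (iff_of_true h1 hq)
  by_cases h : g (some 1) ∈ toSet 340830
  · left
    refine Finset.eq_of_subset_of_card_le (fun x hx => ?_) (Finset.card_smul_finset _ _).ge
    obtain ⟨q, hq, rfl⟩ := Finset.mem_smul_finset.1 hx
    exact (hkey q hq).1 h
  · right
    refine Finset.eq_of_subset_of_card_le (fun x hx => ?_) ?_
    · obtain ⟨q, hq, rfl⟩ := Finset.mem_smul_finset.1 hx
      have hx' : g q ∈ toSet 340830 ∪ toSet 8047776 := by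
        rw [side_facts.2.1]
        simp [(apply_ne hg (hne _ hq).1 (hne _ hq).2).1, (apply_ne hg (hne _ hq).1 (hne _ hq).2).2]
      exact (Finset.mem_union.1 hx').resolve_left fun hh => h ((hkey q hq).2 hh)
    · rw [Finset.card_smul_finset]; decide +kernel

theorem toSet_mem_77 {t : ℕ} (ht : t ∈ hexOrbA ++ hexOrbB ++ hexOrbC) :
    toSet t ∈ octads ∧ (none : GolayPt) ∈ toSet t ∧ (some 0 : GolayPt) ∈ toSet t := by
  have h := List.all_eq_true.1 hexOrb_ok.1 t ht
  simp only [Bool.and_eq_true, Nat.blt_eq, Nat.beq_eq] at h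
  obtain ⟨⟨⟨hlt, hm⟩, h8⟩, hb⟩ := h
  refine ⟨⟨(toSet_mem_supports hlt).2 hm, by rw [card_toSet, ← pc24_eq, h8]⟩, ?_⟩
  have hsub : toSet 8388609 ⊆ toSet t := by
    rw [← Finset.inter_eq_right, ← toSet_and, hb]
  exact ⟨hsub (by decide +kernel), hsub (by decide +kernel)⟩

theorem smul_mem_77 {g : Equiv.Perm GolayPt} (hg : g ∈ G22) {t : ℕ}
    (ht : t ∈ hexOrbA ++ hexOrbB ++ hexOrbC) :
    ∃ u ∈ hexOrbA ++ hexOrbB ++ hexOrbC, g • toSet t = toSet u := by
  obtain ⟨ho, hn, h0⟩ := toSet_mem_77 ht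
  obtain ⟨x, hx, hk, he⟩ := mem_wordsOfWeight_iff.1 ((M24_smul_mem_octads hg.1).2 ho)
  refine ⟨comb x, ?_, he.symm⟩
  have hn' : (none : GolayPt) ∈ toSet (comb x) := by
    rw [he]; exact Finset.mem_smul_finset.2 ⟨none, hn, hg.2 none (by simp)⟩
  have h0' : (some 0 : GolayPt) ∈ toSet (comb x) := by
    rw [he]; exact Finset.mem_smul_finset.2 ⟨some 0, h0, hg.2 (some 0) (by simp)⟩
  have hmask : comb x &&& 8388609 = 8388609 := by
    refine toSet_inj (lt_of_le_of_lt Nat.and_le_right (by norm_num)) (by norm_num) ?_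
    rw [toSet_and, Finset.inter_eq_right,
      show toSet 8388609 = {none, some 0} by decide +kernel]
    exact Finset.insert_subset hn' (Finset.singleton_subset_iff.2 h0')
  have := allR_spec hexOrb_cover x (Nat.zero_le _) (by simpa using hx)
  simp only [pc24_eq, hk, hmask, Nat.beq_refl, Bool.and_self, Bool.not_true, Bool.false_or,
    Bool.or_eq_true, List.any_eq_true, Nat.beq_eq] at this
  simp only [List.mem_append]
  rcases this with ⟨u, hu, he'⟩ | ⟨u, hu, he'⟩ | ⟨u, hu, he'⟩ <;> subst he' <;> simp [hu]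

/-- The orbit of a block under `K`, as a finite set. -/
noncomputable def blockOrbit (K : Subgroup (Equiv.Perm GolayPt)) (t : ℕ) : Finset (Finset GolayPt) :=
  (Set.toFinite (MulAction.orbit K (toSet t))).toFinset

theorem mem_blockOrbit {K : Subgroup (Equiv.Perm GolayPt)} {t : ℕ} {s : Finset GolayPt} :
    s ∈ blockOrbit K t ↔ ∃ g ∈ K, g • toSet t = s := by
  rw [blockOrbit, Set.Finite.mem_toFinset]
  exact ⟨fun ⟨g, hg⟩ => ⟨g, g.2, hg⟩, fun ⟨g, hg, he⟩ => ⟨⟨g, hg⟩, he⟩⟩

theorem smul_blockOrbit {K : Subgroup (Equiv.Perm GolayPt)} {g : Equiv.Perm GolayPt} (hg : g ∈ K)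
    (t : ℕ) : g • blockOrbit K t = blockOrbit K t := by
  refine Finset.eq_of_subset_of_card_le (fun s hs => ?_) (Finset.card_smul_finset _ _).ge
  obtain ⟨u, hu, rfl⟩ := Finset.mem_smul_finset.1 hs
  obtain ⟨h, hh, rfl⟩ := mem_blockOrbit.1 hu
  exact mem_blockOrbit.2 ⟨g * h, mul_mem hg hh, mul_smul _ _ _⟩

theorem mem_part {K : Subgroup (Equiv.Perm GolayPt)} (hK : norm11 ≤ K) {l : List ℕ}
    (hl : l.all (fun t => elevenNorm.any fun c => Nat.beq (push c (l.headD 0)) t) = true) {t : ℕ}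
    (ht : t ∈ l) : ∃ g ∈ K, g • toSet (l.headD 0) = toSet t := by
  obtain ⟨c, hc, he⟩ := List.any_eq_true.1 (List.all_eq_true.1 hl t ht)
  refine ⟨pm c, hK (mem_norm11_of_code hc), ?_⟩
  rw [← toSet_push (isPermOf_pm (good_ok (List.all_eq_true.1 code_goods.2.2.2.1 c hc))),
    Nat.eq_of_beq_eq_true he]

theorem orbit_same {K : Subgroup (Equiv.Perm GolayPt)} {t u : ℕ} (h : toSet u ∈ blockOrbit K t) :
    blockOrbit K u = blockOrbit K t := by
  obtain ⟨g, hg, he⟩ := mem_blockOrbit.1 h
  ext s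
  simp only [mem_blockOrbit, ← he, ← mul_smul]
  exact ⟨fun ⟨a, ha, e⟩ => ⟨a * g, mul_mem ha hg, e⟩,
    fun ⟨a, ha, e⟩ => ⟨a * g⁻¹, mul_mem ha (inv_mem hg), by rwa [inv_mul_cancel_right]⟩⟩

theorem eq_blocks {K : Subgroup (Equiv.Perm GolayPt)} (hK : norm11 ≤ K) (hK' : K ≤ G22) {r : ℕ}
    (hr : r ∈ hexOrbA ++ hexOrbB ++ hexOrbC) (l : List ℕ)
    (hin : ∀ t ∈ l, toSet t ∈ blockOrbit K r)
    (hout : ∀ t ∈ hexOrbA ++ hexOrbB ++ hexOrbC, t ∉ l → toSet t ∉ blockOrbit K r) :
    blockOrbit K r = blocksOf l := by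
  ext s
  simp only [blocksOf, List.mem_toFinset, List.mem_map]
  constructor
  · intro hs
    obtain ⟨g, hg, rfl⟩ := mem_blockOrbit.1 hs
    obtain ⟨u, hu, he⟩ := smul_mem_77 (hK' hg) hr
    by_cases hul : u ∈ l
    · exact ⟨u, hul, he.symm⟩
    · exact absurd (he ▸ hs) (hout u hu hul)
  · rintro ⟨t, ht, rfl⟩; exact hin t ht

theorem card_stab_side : ∀ g ∈ G22, g • toSet 340830 = toSet 340830 →
    g ∈ fixPts Spor.M12 [none, some 0] := fun g hg h => by
  refine ⟨mem_M12.2 ⟨hg.1, ?_⟩, fun x hx => hg.2 x (by simp at hx ⊢; tauto)⟩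
  rw [← side_facts.1, Finset.smul_finset_union, h, Finset.smul_finset_singleton,
    Equiv.Perm.smul_def, hg.2 (some 0) (by simp)]

/-- A subgroup containing the normaliser has order at most 1320, unless its order is a multiple
of 77. -/
theorem card_le_of_norm11_le {K : Subgroup (Equiv.Perm GolayPt)} (hK : norm11 ≤ K) (hK' : K ≤ G22) :
    Nat.card K ≤ 1320 ∨ 77 ∣ Nat.card K := by
  obtain ⟨oA, oB, oC⟩ := hexOrb_orbits
  have hA : hexOrbA.headD 0 ∈ hexOrbA := by decide +kernel
  have hB : hexOrbB.headD 0 ∈ hexOrbB := by decide +kernel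
  have hC : hexOrbC.headD 0 ∈ hexOrbC := by decide +kernel
  have mA : ∀ {t}, t ∈ hexOrbA → t ∈ hexOrbA ++ hexOrbB ++ hexOrbC := fun h => by simp [h]
  have mB : ∀ {t}, t ∈ hexOrbB → t ∈ hexOrbA ++ hexOrbB ++ hexOrbC := fun h => by simp [h]
  have part : ∀ {l : List ℕ} {r t : ℕ},
      l.all (fun t => elevenNorm.any fun c => Nat.beq (push c (l.headD 0)) t) = true →
      t ∈ l → (toSet t ∈ blockOrbit K r ↔ toSet (l.headD 0) ∈ blockOrbit K r) := by
    intro l r t hl ht
    obtain ⟨g, hg, he⟩ := mem_part hK hl ht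
    refine ⟨fun h => ?_, fun h => ?_⟩
    · rw [← smul_blockOrbit (inv_mem hg) r, ← inv_smul_smul g (toSet (l.headD 0)), he]
      exact Finset.smul_mem_smul_finset h
    · rw [← he, ← smul_blockOrbit hg r]
      exact Finset.smul_mem_smul_finset h
  have self : ∀ r, toSet r ∈ blockOrbit K r := fun r => mem_blockOrbit.2 ⟨1, one_mem _, one_smul _ _⟩
  have bound : (∀ g ∈ K, g • toSet 340830 = toSet 340830 ∨ g • toSet 340830 = toSet 8047776) →
      Nat.card K ≤ 1320 := by
    intro hside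
    have h := Nat.card_congr (MulAction.orbitProdStabilizerEquivGroup K (toSet 340830))
    rw [Nat.card_prod] at h
    rw [← h]
    have h1 : Nat.card (MulAction.orbit K (toSet 340830)) ≤ 2 := by
      refine (Nat.card_coe_set_eq _).le.trans ((Set.ncard_le_ncard
        (t := {toSet 340830, toSet 8047776}) ?_ (Set.toFinite _)).trans (Set.ncard_insert_le _ _ |>.trans (by simp)))
      rintro s ⟨g, rfl⟩
      rcases hside g g.2 with e | e
      · exact Or.inl e
      · exact Or.inr e
    have h2 : Nat.card (MulAction.stabilizer K (toSet 340830)) ≤ 660 := by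
      rw [← card_fix11_one]
      refine Nat.card_le_card_of_injective
        (fun g => ⟨g.1.1, card_stab_side _ (hK' g.1.2) g.2⟩) fun a b e => ?_
      exact Subtype.ext (Subtype.ext (congrArg Subtype.val e :))
    calc _ ≤ 2 * 660 := Nat.mul_le_mul h1 h2
      _ = 1320 := by norm_num
  by_cases hAB : toSet (hexOrbB.headD 0) ∈ blockOrbit K (hexOrbA.headD 0)
  · by_cases hAC : toSet (hexOrbC.headD 0) ∈ blockOrbit K (hexOrbA.headD 0)
    · right
      have e : blockOrbit K (hexOrbA.headD 0) = blocksOf (hexOrbA ++ hexOrbB ++ hexOrbC) :=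
        eq_blocks hK hK' (mA hA) _ (fun t ht => by
          simp only [List.mem_append] at ht
          rcases ht with (ht | ht) | ht
          · exact (part oA ht).2 (self _)
          · exact (part oB ht).2 hAB
          · exact (part oC ht).2 hAC) (fun t ht hno => absurd ht hno)
      have hc : Nat.card (MulAction.orbit K (toSet (hexOrbA.headD 0))) = 77 := by
        rw [Nat.card_coe_set_eq, Set.ncard_eq_toFinset_card _ (Set.toFinite _)]
        change (blockOrbit K (hexOrbA.headD 0)).card = 77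
        rw [e, blocksOf, List.toFinset_card_of_nodup, List.length_map, hexOrb_ok.2.2]
        exact hexOrb_ok.2.1.map_on fun a ha b hb h =>
          toSet_inj (lt_of_mem (fun t h => h) a ha) (lt_of_mem (fun t h => h) b hb) h
      exact ⟨_, by rw [← Nat.card_congr (MulAction.orbitProdStabilizerEquivGroup K
        (toSet (hexOrbA.headD 0))), Nat.card_prod, hc]⟩
    · left
      have e : blockOrbit K (hexOrbA.headD 0) = blocksOf (hexOrbA ++ hexOrbB) :=
        eq_blocks hK hK' (mA hA) _ (fun t ht => by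
          rcases List.mem_append.1 ht with ht | ht
          · exact (part oA ht).2 (self _)
          · exact (part oB ht).2 hAB) (fun t ht hno h => by
          have : t ∈ hexOrbC := (List.mem_append.1 ht).resolve_left hno
          exact hAC ((part oC this).1 h))
      exact bound fun g hg => sideAB (hK' hg) (e ▸ smul_blockOrbit hg _)
  · left
    by_cases hAC : toSet (hexOrbC.headD 0) ∈ blockOrbit K (hexOrbA.headD 0)
    · have e : blockOrbit K (hexOrbB.headD 0) = blocksOf hexOrbB :=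
        eq_blocks hK hK' (mB hB) _ (fun t ht => (part oB ht).2 (self _)) (fun t ht hno h => by
          simp only [List.mem_append] at ht
          rcases ht with (ht | ht) | ht
          · refine hAB ?_
            rw [orbit_same ((part oA ht).1 h)]
            exact self _
          · exact hno ht
          · refine hAB ?_
            rw [← orbit_same hAC, orbit_same ((part oC ht).1 h)]
            exact self _)
      exact bound fun g hg => Or.inl (sideB (hK' hg) (e ▸ smul_blockOrbit hg _))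
    · have e : blockOrbit K (hexOrbA.headD 0) = blocksOf hexOrbA :=
        eq_blocks hK hK' (mA hA) _ (fun t ht => (part oA ht).2 (self _)) (fun t ht hno h => by
          simp only [List.mem_append] at ht
          rcases ht with (ht | ht) | ht
          · exact hno ht
          · exact hAB ((part oB ht).1 h)
          · exact hAC ((part oC ht).1 h))
      exact bound fun g hg => Or.inl (sideA (hK' hg) (e ▸ smul_blockOrbit hg _))

end CfsgLib.M24Cert
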