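import Cfsg.Agent.Lib.M24Cert.HexadOrbits

/-!
Two orders that subgroups of the two-point stabiliser cannot have.
-/

set_option autoImplicit false

namespace CfsgLib.M24Cert

open Cfsg CfsgLib.Golay CfsgLib.Comp CfsgLib.M24Elt
open scoped Pointwise

local instance fact_prime_eleven' : Fact (Nat.Prime 11) := ⟨by norm_num⟩

/-- A subgroup of order divisible by 11 has a conjugate containing the standard element. -/
theorem exists_conj_eleven {H : Subgroup (Equiv.Perm GolayPt)} (hH : H ≤ G22)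
    (h11 : 11 ∣ Nat.card H) :
    ∃ K : Subgroup (Equiv.Perm GolayPt), K ≤ G22 ∧ Nat.card K = Nat.card H ∧ mulTwo ∈ K := by
  obtain ⟨y, hy⟩ := exists_prime_orderOf_dvd_card' 11 h11
  let a' : G22 := ⟨mulTwo, mulTwo_mem⟩
  let y' : G22 := ⟨y.1, hH y.2⟩
  have hord : ∀ z : G22, orderOf (z : Equiv.Perm GolayPt) = 11 → Nat.card (Subgroup.zpowers z) = 11 :=
    fun z hz => by rw [Nat.card_zpowers, ← Subgroup.orderOf_coe, hz]
  have hind : ∀ z : G22, orderOf (z : Equiv.Perm GolayPt) = 11 → ¬ 11 ∣ (Subgroup.zpowers z).index := by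
    intro z hz hd
    have h := (Subgroup.zpowers z).card_mul_index
    rw [hord z hz, card_fix2] at h
    obtain ⟨k, hk⟩ := hd
    rw [hk] at h
    omega
  have hy' : orderOf (y' : Equiv.Perm GolayPt) = 11 := by
    show orderOf (y : Equiv.Perm GolayPt) = 11
    rw [Subgroup.orderOf_coe, hy]
  have ha' : orderOf (a' : Equiv.Perm GolayPt) = 11 := orderOf_mulTwo
  let P : Sylow 11 G22 := (IsPGroup.of_card (n := 1) (by rw [hord y' hy', pow_one])).toSylow (hind y' hy')
  let Q : Sylow 11 G22 := (IsPGroup.of_card (n := 1) (by rw [hord a' ha', pow_one])).toSylow (hind a' ha')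
  obtain ⟨c, hc⟩ := MulAction.exists_smul_eq G22 P Q
  have hmem : a' ∈ ((c • P : Sylow 11 G22) : Subgroup G22) := hc ▸ Subgroup.mem_zpowers a'
  obtain ⟨u, hu, huv⟩ := hmem
  refine ⟨H.map (MulAut.conj (c : Equiv.Perm GolayPt)).toMonoidHom, ?_,
    Subgroup.card_map_of_injective (MulAut.conj (c : Equiv.Perm GolayPt)).injective, ?_⟩
  · rintro _ ⟨g, hg, rfl⟩
    exact mul_mem (mul_mem c.2 (hH hg)) (inv_mem c.2)
  · obtain ⟨k, hk⟩ := hu
    refine ⟨((y : Equiv.Perm GolayPt)) ^ k, zpow_mem y.2 k, ?_⟩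
    have h := congrArg (fun z : G22 => (z : Equiv.Perm GolayPt)) huv
    rw [← hk] at h
    exact h

theorem card_ne_2112 {K : Subgroup (Equiv.Perm GolayPt)} (hK : K ≤ G22) : Nat.card K ≠ 2112 := by
  intro hc
  obtain ⟨K', hK', hc', ha⟩ := exists_conj_eleven hK (by rw [hc]; norm_num)
  rw [hc] at hc'
  obtain ⟨n, m, hn, hnm, hm, -, -⟩ := exists_count ha orderOf_mulTwo (by rw [hc']; norm_num)
    fun g hg h => mem_norm11 (hK' hg) h
  rw [card_norm11] at hm
  rw [hc'] at hnm
  have hmc : m ∈ [1, 5, 11, 55] := (by decide +kernel : ∀ x ∈ Nat.divisors 55, x ∈ [1, 5, 11, 55]) m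
    (Nat.mem_divisors.2 ⟨hm, by norm_num⟩)
  simp only [List.mem_cons, List.not_mem_nil, or_false] at hmc
  rcases hmc with rfl | rfl | rfl | rfl <;> omega

theorem card_ne_7920 {K : Subgroup (Equiv.Perm GolayPt)} (hK : K ≤ G22) : Nat.card K ≠ 7920 := by
  intro hc
  obtain ⟨K', hK', hc', ha⟩ := exists_conj_eleven hK (by rw [hc]; norm_num)
  rw [hc] at hc'
  obtain ⟨n, m, hn, hnm, hm, hle, -⟩ := exists_count ha orderOf_mulTwo (by rw [hc']; norm_num)
    fun g hg h => mem_norm11 (hK' hg) h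
  rw [card_norm11] at hm hle
  rw [hc'] at hnm
  have hm55 : m = 55 := by
    have hmc : m ∈ [1, 5, 11, 55] := (by decide +kernel : ∀ x ∈ Nat.divisors 55, x ∈ [1, 5, 11, 55]) m
      (Nat.mem_divisors.2 ⟨hm, by norm_num⟩)
    simp only [List.mem_cons, List.not_mem_nil, or_false] at hmc
    rcases hmc with rfl | rfl | rfl | rfl <;> omega
  rcases card_le_of_norm11_le (hle hm55) hK' with h | h <;> rw [hc'] at h <;> omega

end CfsgLib.M24Cert
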