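import Cfsg.Agent.Lib.M24Cert.Normalizers
import Cfsg.Agent.Lib.M24Cert.DataSylTwo

/-!
Subgroups of order 40320 of the stabiliser of a point: duad and heptad stabilisers.
-/

set_option autoImplicit false

namespace CfsgLib.M24Cert

open Cfsg CfsgLib.Golay CfsgLib.Comp CfsgLib.M24Elt
open scoped Pointwise

/-- The standard Sylow 2-subgroup. -/
noncomputable def syl23Sub : Subgroup (Equiv.Perm GolayPt) := spanPts syl23Gens

theorem syl23_gens_ok :
    syl23Gens.all (fun c => good c && Nat.beq (app c 23) 23) = true := by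
  decide +kernel

theorem card_syl23 : Nat.card syl23Sub = 128 := by
  rw [syl23Sub, card_spanPts, syl23_card]

theorem syl23_le : syl23Sub ≤ G23 := by
  refine spanPts_le fun s hs => ?_
  have h := List.all_eq_true.1 syl23_gens_ok s hs
  simp only [Bool.and_eq_true, Nat.beq_eq] at h
  exact ⟨pm_mem h.1, fun p hp => by
    rw [List.mem_singleton] at hp; subst hp
    exact bit_injective ((bit_pm_app h.1 _).trans h.2)⟩

/-- Orbit representatives are moved to every point of their orbit. -/
theorem syl23_moves :
    [(0, 4194305), (14, 475136), (1, 3715070)].all (fun r : ℕ × ℕ =>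
      allLt 24 fun j => !r.2.testBit j || syl23Reach.any (fun c => Nat.beq (app c r.1) j) ||
        Nat.beq r.1 j) = true := by
  decide +kernel

theorem syl23_reach_ok : syl23Reach.all (fun c => PermCode.okb 24 c &&
    PermCode.sift 24 syl23Chain c) = true := by
  decide +kernel

theorem exists_mem_syl23 {r : ℕ × ℕ} (hr : r ∈ [(0, 4194305), (14, 475136), (1, 3715070)])
    {p : GolayPt} (hp : p ∈ toSet r.2) (hr24 : r.1 < 24) :
    ∃ g ∈ syl23Sub, g (Golay.pt r.1) = p := by
  have h := allLt_spec (List.all_eq_true.1 syl23_moves r hr) _ (bit_lt p)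
  rw [mem_toSet.1 hp] at h
  simp only [Bool.not_true, Bool.false_or, Bool.or_eq_true, List.any_eq_true, Nat.beq_eq] at h
  have mk : ∀ c, PermCode.Ok 24 c → pm c ∈ syl23Sub → app c r.1 = bit p →
      ∃ g ∈ syl23Sub, g (Golay.pt r.1) = p := fun c hok hm he =>
    ⟨pm c, hm, bit_injective (by rw [← isPermOf_pm hok (Golay.pt r.1), bit_pt hr24, he])⟩
  rcases h with ⟨c, hc, hcj⟩ | h
  · have hg := List.all_eq_true.1 syl23_reach_ok c hc
    simp only [Bool.and_eq_true] at hg
    exact mk c (PermCode.ok_of_okb hg.1) ⟨_, PermCode.mem_span syl23_check hg.1 hg.2, rfl⟩ hcj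
  · exact ⟨1, one_mem _, by rw [Equiv.Perm.one_apply, h, pt_bit]⟩

/-- A step of the bound for a subgroup preserving a set. -/
theorem card_le_step {K : Subgroup (Equiv.Perm GolayPt)} {l : List GolayPt} (b : GolayPt)
    (T : Finset GolayPt) (h : ∀ g ∈ fixPts K l, g b ∈ T) :
    Nat.card (fixPts K l) ≤ T.card * Nat.card (fixPts K (b :: l)) := by
  classical
  rw [card_fixPts_step (Δ := T.filter fun x => ∃ t, t ∈ fixPts K l ∧ t b = x)
    (fun g hg => Finset.mem_filter.2 ⟨h g hg, g, hg, rfl⟩)
    (fun x hx => (Finset.mem_filter.1 hx).2)]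
  exact Nat.mul_le_mul_right _ (Finset.card_filter_le _ _)

theorem card_fixPts_eq_base (xs ys : List GolayPt) (hx : xs.Nodup) (hy : ys.Nodup)
    (hlen : xs.length = ys.length) (h5 : xs.length ≤ 5) :
    Nat.card (fixPts M24 xs) = Nat.card (fixPts M24 ys) := by
  obtain ⟨g, hg, hgm⟩ := exists_map_M24 hx hy hlen h5
  exact Nat.card_congr (fixPtsConj hg hgm).toEquiv

theorem card_fix_le {K : Subgroup (Equiv.Perm GolayPt)} (hK : K ≤ G23) {l : List GolayPt}
    (ys : List GolayPt) (hl : (none :: l).Nodup) (hy : ys.Nodup)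
    (hlen : (none :: l).length = ys.length) (h5 : (none :: l).length ≤ 5) :
    Nat.card (fixPts K l) ≤ Nat.card (fixPts M24 ys) := by
  rw [← card_fixPts_eq_base _ _ hl hy hlen h5]
  refine Nat.le_of_dvd Nat.card_pos (Subgroup.card_dvd_of_le fun g hg => ⟨(hK hg.1).1, ?_⟩)
  intro x hx
  rcases List.mem_cons.1 hx with rfl | hx
  · exact (hK hg.1).2 _ (by simp)
  · exact hg.2 x hx

theorem le4 {K : Subgroup (Equiv.Perm GolayPt)} (hK : K ≤ G23) {l : List GolayPt}
    (hl : (none :: l).Nodup) (hlen : l.length = 3) : Nat.card (fixPts K l) ≤ 960 :=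
  (card_fix_le hK [some 2, some 1, some 0, none] hl (by decide) (by simp [hlen]) (by simp [hlen])).trans
    card_fix4.le

theorem le5 {K : Subgroup (Equiv.Perm GolayPt)} (hK : K ≤ G23) {l : List GolayPt}
    (hl : (none :: l).Nodup) (hlen : l.length = 4) : Nat.card (fixPts K l) ≤ 48 :=
  (card_fix_le hK [some 3, some 2, some 1, some 0, none] hl (by decide) (by simp [hlen])
    (by simp [hlen])).trans card_fix5.le

/-- Elements of a set-stabilising subgroup move `b` inside the set minus the fixed points. -/
theorem move_mem {K : Subgroup (Equiv.Perm GolayPt)} {T T' : Finset GolayPt}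
    (hT : ∀ g ∈ K, g • T = T) {l : List GolayPt} {b : GolayPt}
    (hb : b ∈ T ∧ b ∉ l) (hT' : ∀ x ∈ T, x ∈ T' ∨ x ∈ l) :
    ∀ g ∈ fixPts K l, g b ∈ T' := fun g hg =>
  (hT' _ (by rw [← hT g hg.1]; exact Finset.smul_mem_smul_finset hb.1)).resolve_right fun h =>
    hb.2 (by rwa [g.injective ((hg.2 _ h) : g (g b) = g b)] at h)

/-- The orbit of a point. -/
noncomputable def ptOrbit (K : Subgroup (Equiv.Perm GolayPt)) (p : GolayPt) : Finset GolayPt :=
  (Set.toFinite (MulAction.orbit K p)).toFinset

theorem mem_ptOrbit {K : Subgroup (Equiv.Perm GolayPt)} {p x : GolayPt} :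
    x ∈ ptOrbit K p ↔ ∃ g ∈ K, g p = x := by
  rw [ptOrbit, Set.Finite.mem_toFinset]
  exact ⟨fun ⟨g, hg⟩ => ⟨g, g.2, hg⟩, fun ⟨g, hg, he⟩ => ⟨⟨g, hg⟩, he⟩⟩

theorem smul_ptOrbit {K : Subgroup (Equiv.Perm GolayPt)} {g : Equiv.Perm GolayPt} (hg : g ∈ K)
    (p : GolayPt) : g • ptOrbit K p = ptOrbit K p := by
  refine Finset.eq_of_subset_of_card_le (fun s hs => ?_) (Finset.card_smul_finset _ _).ge
  obtain ⟨u, hu, rfl⟩ := Finset.mem_smul_finset.1 hs
  obtain ⟨h, hh, rfl⟩ := mem_ptOrbit.1 hu
  exact mem_ptOrbit.2 ⟨g * h, mul_mem hg hh, rfl⟩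

theorem card_ptOrbit_dvd (K : Subgroup (Equiv.Perm GolayPt)) (p : GolayPt) :
    (ptOrbit K p).card ∣ Nat.card K := by
  refine ⟨Nat.card (MulAction.stabilizer K p), ?_⟩
  rw [← Nat.card_congr (MulAction.orbitProdStabilizerEquivGroup K p), Nat.card_prod,
    Nat.card_coe_set_eq, Set.ncard_eq_toFinset_card _ (Set.toFinite _)]
  rfl

/-- An orbit of a group containing the Sylow subgroup is a union of its orbits. -/
theorem whole_in {K : Subgroup (Equiv.Perm GolayPt)} (hS : syl23Sub ≤ K) {r : ℕ × ℕ}
    (hr : r ∈ [(0, 4194305), (14, 475136), (1, 3715070)]) (hr24 : r.1 < 24) (p : GolayPt) :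
    (Golay.pt r.1 ∈ ptOrbit K p → toSet r.2 ⊆ ptOrbit K p) ∧
    (Golay.pt r.1 ∉ ptOrbit K p → Disjoint (toSet r.2) (ptOrbit K p)) := by
  constructor
  · intro h x hx
    obtain ⟨g, hg, rfl⟩ := exists_mem_syl23 hr hx hr24
    rw [← smul_ptOrbit (hS hg) p]
    exact Finset.smul_mem_smul_finset h
  · intro h
    rw [Finset.disjoint_left]
    intro x hx hx'
    obtain ⟨g, hg, rfl⟩ := exists_mem_syl23 hr hx hr24
    refine h ?_
    rw [← smul_ptOrbit (inv_mem (hS hg)) p]
    exact Finset.mem_smul_finset.2 ⟨_, hx', perm_inv_apply g _⟩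

theorem orbit_shape {K : Subgroup (Equiv.Perm GolayPt)} (hS : syl23Sub ≤ K) (hK : K ≤ G23)
    {q : GolayPt} (hq : q ≠ none) :
    ∃ (c a d b : Bool),
      (c = true ↔ (some 12 : GolayPt) ∈ ptOrbit K q) ∧ (a = true ↔ (some 0 : GolayPt) ∈ ptOrbit K q) ∧
      (d = true ↔ (some 14 : GolayPt) ∈ ptOrbit K q) ∧ (b = true ↔ (some 1 : GolayPt) ∈ ptOrbit K q) ∧
      ptOrbit K q = (bif c then toSet 4096 else ∅) ∪ (bif a then toSet 4194305 else ∅) ∪
        (bif d then toSet 475136 else ∅) ∪ (bif b then toSet 3715070 else ∅) := by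
  classical
  refine ⟨decide (_ ∈ ptOrbit K q), decide (_ ∈ ptOrbit K q), decide (_ ∈ ptOrbit K q),
    decide (_ ∈ ptOrbit K q), decide_eq_true_iff, decide_eq_true_iff, decide_eq_true_iff,
    decide_eq_true_iff, ?_⟩
  obtain ⟨a1, a2⟩ := whole_in hS (r := (0, 4194305)) (by simp) (by norm_num) q
  obtain ⟨d1, d2⟩ := whole_in hS (r := (14, 475136)) (by simp) (by norm_num) q
  obtain ⟨b1, b2⟩ := whole_in hS (r := (1, 3715070)) (by simp) (by norm_num) q
  rw [show Golay.pt 0 = (some 0 : GolayPt) from rfl] at a1 a2
  rw [show Golay.pt 14 = (some 14 : GolayPt) from rfl] at d1 d2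
  rw [show Golay.pt 1 = (some 1 : GolayPt) from rfl] at b1 b2
  have hcover : ∀ x : GolayPt, x ≠ none →
      x = some 12 ∨ x ∈ toSet 4194305 ∨ x ∈ toSet 475136 ∨ x ∈ toSet 3715070 := by decide +kernel
  have hc : toSet 4096 = ({some 12} : Finset GolayPt) := by decide +kernel
  refine Finset.Subset.antisymm (fun x hx => ?_) ?_
  · have hxn : x ≠ none := by
      rintro rfl
      obtain ⟨g, hg, he⟩ := mem_ptOrbit.1 hx
      exact hq (g.injective (he.trans ((hK hg).2 none (by simp)).symm))
    simp only [Finset.mem_union]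
    rcases hcover x hxn with rfl | h | h | h
    · left; left; left; rw [decide_eq_true hx]; simp [hc]
    · left; left; right
      by_cases h0 : (some 0 : GolayPt) ∈ ptOrbit K q
      · rw [decide_eq_true h0]; exact h
      · exact absurd hx (Finset.disjoint_left.1 (a2 h0) h)
    · left; right
      by_cases h0 : (some 14 : GolayPt) ∈ ptOrbit K q
      · rw [decide_eq_true h0]; exact h
      · exact absurd hx (Finset.disjoint_left.1 (d2 h0) h)
    · right
      by_cases h0 : (some 1 : GolayPt) ∈ ptOrbit K q
      · rw [decide_eq_true h0]; exact h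
      · exact absurd hx (Finset.disjoint_left.1 (b2 h0) h)
  · refine Finset.union_subset (Finset.union_subset (Finset.union_subset ?_ ?_) ?_) ?_
    · by_cases h : (some 12 : GolayPt) ∈ ptOrbit K q
      · rw [decide_eq_true h, hc]; simpa using h
      · rw [decide_eq_false h]; simp
    · by_cases h : (some 0 : GolayPt) ∈ ptOrbit K q
      · rw [decide_eq_true h]; exact a1 h
      · rw [decide_eq_false h]; simp
    · by_cases h : (some 14 : GolayPt) ∈ ptOrbit K q
      · rw [decide_eq_true h]; exact d1 h
      · rw [decide_eq_false h]; simp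
    · by_cases h : (some 1 : GolayPt) ∈ ptOrbit K q
      · rw [decide_eq_true h]; exact b1 h
      · rw [decide_eq_false h]; simp

/-- The stabiliser in the point stabiliser of a finite set. -/
noncomputable def setStab23 (T : Finset GolayPt) : Subgroup (Equiv.Perm GolayPt) :=
  G23 ⊓ MulAction.stabilizer (Equiv.Perm GolayPt) T

theorem card_stab_duad : Nat.card (setStab23 (toSet 4194305)) ≤ 40320 := by
  set K := setStab23 (toSet 4194305)
  have hT : ∀ g ∈ K, g • toSet 4194305 = toSet 4194305 := fun g hg => hg.2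
  have h1 := card_le_step (K := K) (l := []) (some 0) (toSet 4194305)
    (move_mem hT ⟨by decide +kernel, by simp⟩ fun x hx => Or.inl hx)
  have h2 := card_le_step (K := K) (l := [some 0]) (some 22) ({some 22} : Finset GolayPt)
    (move_mem hT ⟨by decide +kernel, by decide⟩
      ((by decide +kernel : ∀ x ∈ toSet 4194305, x ∈ ({some 22} : Finset GolayPt) ∨ x ∈ [(some 0 : GolayPt)])))
  have h3 := card_fix_le (K := K) inf_le_left (l := [some 22, some 0]) [some 1, some 0, none]
    (by decide) (by decide) rfl (by simp)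
  rw [fixPts_nil, show (toSet 4194305).card = 2 by decide +kernel] at h1
  rw [Finset.card_singleton] at h2
  rw [card_fix3] at h3
  omega

theorem card_stab_heptad : Nat.card (setStab23 (toSet 4673537)) ≤ 40320 := by
  set K := setStab23 (toSet 4673537)
  have hT : ∀ g ∈ K, g • toSet 4673537 = toSet 4673537 := fun g hg => hg.2
  have h1 := card_le_step (K := K) (l := []) (some 12) (toSet 4673537)
    (move_mem hT ⟨by decide +kernel, by simp⟩ fun x hx => Or.inl hx)
  have h2 := card_le_step (K := K) (l := [some 12]) (some 0) (toSet 4669441)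
    (move_mem hT ⟨by decide +kernel, by decide⟩ (by decide +kernel))
  have h3 := card_le_step (K := K) (l := [some 0, some 12]) (some 22) (toSet 4669440)
    (move_mem hT ⟨by decide +kernel, by decide⟩ (by decide +kernel))
  have h4 := card_le_step (K := K) (l := [some 22, some 0, some 12]) (some 14) (toSet 475136)
    (move_mem hT ⟨by decide +kernel, by decide⟩ (by decide +kernel))
  have h5 := le5 (K := K) inf_le_left (l := [some 14, some 22, some 0, some 12]) (by decide) rfl
  rw [fixPts_nil, show (toSet 4673537).card = 7 by decide +kernel] at h1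
  rw [show (toSet 4669441).card = 6 by decide +kernel] at h2
  rw [show (toSet 4669440).card = 5 by decide +kernel] at h3
  rw [show (toSet 475136).card = 4 by decide +kernel] at h4
  omega

theorem shape_cards :
    (toSet 4096 ∪ toSet 4194305 ∪ toSet 475136 ∪ toSet 3715070).card = 23 ∧
    (toSet 4096 ∪ toSet 4194305 ∪ toSet 3715070).card = 19 ∧
    (toSet 4096 ∪ toSet 3715070).card = 17 ∧
    (toSet 4194305 ∪ toSet 475136 ∪ toSet 3715070).card = 22 := by
  decide +kernel

/-- A subgroup of order 40320 containing the Sylow subgroup is a duad or heptad stabiliser. -/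
theorem eq_setStab23 {K : Subgroup (Equiv.Perm GolayPt)} (hS : syl23Sub ≤ K) (hK : K ≤ G23)
    (hc : Nat.card K = 40320) :
    K = setStab23 (toSet 4194305) ∨ K = setStab23 (toSet 4673537) := by
  have fin : ∀ m : ℕ, Nat.card (setStab23 (toSet m)) ≤ 40320 → (∀ g ∈ K, g • toSet m = toSet m) →
      K = setStab23 (toSet m) := fun m hm hT =>
    Subgroup.eq_of_le_of_card_ge (fun g hg => ⟨hK hg, hT g hg⟩) (hc ▸ hm)
  obtain ⟨c, a, d, b, hc12, -, -, -, hU⟩ := orbit_shape hS hK (q := some 12) (by simp)
  have hdvd := card_ptOrbit_dvd K (some 12)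
  rw [hc] at hdvd
  have hself : (some 12 : GolayPt) ∈ ptOrbit K (some 12) := mem_ptOrbit.2 ⟨1, one_mem _, rfl⟩
  obtain rfl : c = true := hc12.2 hself
  have hTU : ∀ g ∈ K, g • ptOrbit K (some 12) = ptOrbit K (some 12) := fun g hg => smul_ptOrbit hg _
  cases a <;> cases d <;> cases b <;> simp only [cond_true, cond_false, Finset.union_empty] at hU
  · -- a fixed point
    have h12 : ∀ g ∈ K, g (some 12) = some 12 := fun g hg => by
      have : g (some 12) ∈ ptOrbit K (some 12) := mem_ptOrbit.2 ⟨g, hg, rfl⟩
      rw [hU] at this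
      exact (by decide +kernel : ∀ x ∈ toSet 4096, x = (some 12 : GolayPt)) _ this
    obtain ⟨c', a', d', b', hc', ha', -, -, hV⟩ := orbit_shape hS hK (q := some 0) (by simp)
    have hdvd' := card_ptOrbit_dvd K (some 0)
    rw [hc] at hdvd'
    obtain rfl : a' = true := ha'.2 (mem_ptOrbit.2 ⟨1, one_mem _, rfl⟩)
    obtain rfl : c' = false := by
      by_contra hne
      obtain ⟨g, hg, he⟩ := mem_ptOrbit.1 (hc'.1 (Bool.eq_true_of_not_eq_false hne))
      exact absurd (g.injective (he.trans (h12 g hg).symm)) (by decide)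
    have hTV : ∀ g ∈ K, g • ptOrbit K (some 0) = ptOrbit K (some 0) := fun g hg => smul_ptOrbit hg _
    have e1 := card_le_step (K := K) (l := []) (some 12) ({some 12} : Finset GolayPt)
      (fun g hg => by rw [h12 g hg.1]; simp)
    rw [fixPts_nil, Finset.card_singleton] at e1
    cases d' <;> cases b' <;>
      simp only [cond_true, cond_false, Finset.union_empty, Finset.empty_union] at hV
    · have hT : ∀ g ∈ K, g • toSet 4194305 = toSet 4194305 := fun g hg => by
        rw [← hV]; exact hTV g hg
      have e2 := card_le_step (K := K) (l := [some 12]) (some 0) (toSet 4194305)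
        (move_mem hT ⟨by decide +kernel, by decide⟩ fun x hx => Or.inl hx)
      have e3 := card_le_step (K := K) (l := [some 0, some 12]) (some 22) ({some 22} : Finset GolayPt)
        (move_mem hT ⟨by decide +kernel, by decide⟩ (by decide +kernel))
      have e4 := le4 hK (l := [some 22, some 0, some 12]) (by decide) rfl
      rw [show (toSet 4194305).card = 2 by decide +kernel] at e2
      rw [Finset.card_singleton] at e3
      omega
    · -- the orbit avoids four points
      have hT : ∀ g ∈ K, g • toSet 475136 = toSet 475136 := fun g hg => by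
        refine Finset.eq_of_subset_of_card_le (fun y hy => ?_) (Finset.card_smul_finset _ _).ge
        obtain ⟨x, hx, rfl⟩ := Finset.mem_smul_finset.1 hy
        have h0 : g x ∉ toSet 4194305 ∪ toSet 3715070 := fun h => by
          rw [← hV, ← hTV g hg] at h
          have := Finset.smul_mem_smul_finset_iff g |>.1 h
          rw [hV] at this
          exact (by decide +kernel : ∀ x ∈ toSet 475136, x ∉ toSet 4194305 ∪ toSet 3715070) x hx this
        have hxn : x ≠ none ∧ x ≠ some 12 :=
          (by decide +kernel : ∀ x ∈ toSet 475136, x ≠ none ∧ x ≠ some 12) x hx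
        exact (by decide +kernel : ∀ z : GolayPt, z ≠ none → z ≠ some 12 →
          z ∉ toSet 4194305 ∪ toSet 3715070 → z ∈ toSet 475136) (g x)
          (fun e => hxn.1 (g.injective (e.trans ((hK hg).2 none (by simp)).symm)))
          (fun e => hxn.2 (g.injective (e.trans (h12 g hg).symm))) h0
      have e2 := card_le_step (K := K) (l := [some 12]) (some 14) (toSet 475136)
        (move_mem hT ⟨by decide +kernel, by decide⟩ fun x hx => Or.inl hx)
      have e3 := card_le_step (K := K) (l := [some 14, some 12]) (some 16) (toSet 458752)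
        (move_mem hT ⟨by decide +kernel, by decide⟩ (by decide +kernel))
      have e4 := card_le_step (K := K) (l := [some 16, some 14, some 12]) (some 17) (toSet 393216)
        (move_mem hT ⟨by decide +kernel, by decide⟩ (by decide +kernel))
      have e5 := le5 hK (l := [some 17, some 16, some 14, some 12]) (by decide) rfl
      rw [show (toSet 475136).card = 4 by decide +kernel] at e2
      rw [show (toSet 458752).card = 3 by decide +kernel] at e3
      rw [show (toSet 393216).card = 2 by decide +kernel] at e4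
      omega
    · have hT : ∀ g ∈ K, g • toSet 4669441 = toSet 4669441 := fun g hg => by
        rw [show toSet 4669441 = toSet 4194305 ∪ toSet 475136 by decide +kernel, ← hV]
        exact hTV g hg
      have e2 := card_le_step (K := K) (l := [some 12]) (some 0) (toSet 4669441)
        (move_mem hT ⟨by decide +kernel, by decide⟩ fun x hx => Or.inl hx)
      have e3 := card_le_step (K := K) (l := [some 0, some 12]) (some 22) (toSet 4669440)
        (move_mem hT ⟨by decide +kernel, by decide⟩ (by decide +kernel))
      have e4 := card_le_step (K := K) (l := [some 22, some 0, some 12]) (some 14) (toSet 475136)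
        (move_mem hT ⟨by decide +kernel, by decide⟩ (by decide +kernel))
      have e5 := le5 hK (l := [some 14, some 22, some 0, some 12]) (by decide) rfl
      rw [show (toSet 4669441).card = 6 by decide +kernel] at e2
      rw [show (toSet 4669440).card = 5 by decide +kernel] at e3
      rw [show (toSet 475136).card = 4 by decide +kernel] at e4
      omega
    · rw [hV, shape_cards.2.2.2] at hdvd'
      exact absurd hdvd' (by norm_num)
  · rw [hU, shape_cards.2.2.1] at hdvd
    exact absurd hdvd (by norm_num)
  · have hT : ∀ g ∈ K, g • toSet 479232 = toSet 479232 := fun g hg => by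
      rw [show toSet 479232 = toSet 4096 ∪ toSet 475136 by decide +kernel, ← hU]
      exact hTU g hg
    have e1 := card_le_step (K := K) (l := []) (some 12) (toSet 479232)
      (move_mem hT ⟨by decide +kernel, by simp⟩ fun x hx => Or.inl hx)
    have e2 := card_le_step (K := K) (l := [some 12]) (some 14) (toSet 475136)
      (move_mem hT ⟨by decide +kernel, by decide⟩ (by decide +kernel))
    have e3 := card_le_step (K := K) (l := [some 14, some 12]) (some 16) (toSet 458752)
      (move_mem hT ⟨by decide +kernel, by decide⟩ (by decide +kernel))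
    have e4 := card_le_step (K := K) (l := [some 16, some 14, some 12]) (some 17) (toSet 393216)
      (move_mem hT ⟨by decide +kernel, by decide⟩ (by decide +kernel))
    have e5 := le5 hK (l := [some 17, some 16, some 14, some 12]) (by decide) rfl
    rw [fixPts_nil, show (toSet 479232).card = 5 by decide +kernel] at e1
    rw [show (toSet 475136).card = 4 by decide +kernel] at e2
    rw [show (toSet 458752).card = 3 by decide +kernel] at e3
    rw [show (toSet 393216).card = 2 by decide +kernel] at e4
    omega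
  · -- the orbit avoids a pair
    left
    refine fin _ card_stab_duad fun g hg => ?_
    refine Finset.eq_of_subset_of_card_le (fun y hy => ?_) (Finset.card_smul_finset _ _).ge
    obtain ⟨x, hx, rfl⟩ := Finset.mem_smul_finset.1 hy
    have h0 : g x ∉ toSet 4096 ∪ toSet 475136 ∪ toSet 3715070 := fun h => by
      rw [← hU, ← hTU g hg] at h
      have := Finset.smul_mem_smul_finset_iff g |>.1 h
      rw [hU] at this
      exact (by decide +kernel : ∀ x ∈ toSet 4194305,
        x ∉ toSet 4096 ∪ toSet 475136 ∪ toSet 3715070) x hx this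
    have hxn : x ≠ none := (by decide +kernel : ∀ x ∈ toSet 4194305, x ≠ none) x hx
    exact (by decide +kernel : ∀ z : GolayPt, z ≠ none →
      z ∉ toSet 4096 ∪ toSet 475136 ∪ toSet 3715070 → z ∈ toSet 4194305) (g x)
      (fun e => hxn (g.injective (e.trans ((hK hg).2 none (by simp)).symm))) h0
  · have hT : ∀ g ∈ K, g • toSet 4198401 = toSet 4198401 := fun g hg => by
      rw [show toSet 4198401 = toSet 4096 ∪ toSet 4194305 by decide +kernel, ← hU]
      exact hTU g hg
    have e1 := card_le_step (K := K) (l := []) (some 12) (toSet 4198401)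
      (move_mem hT ⟨by decide +kernel, by simp⟩ fun x hx => Or.inl hx)
    have e2 := card_le_step (K := K) (l := [some 12]) (some 0) (toSet 4194305)
      (move_mem hT ⟨by decide +kernel, by decide⟩ (by decide +kernel))
    have e3 := card_le_step (K := K) (l := [some 0, some 12]) (some 22) ({some 22} : Finset GolayPt)
      (move_mem hT ⟨by decide +kernel, by decide⟩ (by decide +kernel))
    have e4 := le4 hK (l := [some 22, some 0, some 12]) (by decide) rfl
    rw [fixPts_nil, show (toSet 4198401).card = 3 by decide +kernel] at e1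
    rw [show (toSet 4194305).card = 2 by decide +kernel] at e2
    rw [Finset.card_singleton] at e3
    omega
  · rw [hU, shape_cards.2.1] at hdvd
    exact absurd hdvd (by norm_num)
  · right
    refine fin _ card_stab_heptad fun g hg => ?_
    rw [show toSet 4673537 = toSet 4096 ∪ toSet 4194305 ∪ toSet 475136 by decide +kernel, ← hU]
    exact hTU g hg
  · rw [hU, shape_cards.1] at hdvd
    exact absurd hdvd (by norm_num)

theorem exists_conj_syl23 {H : Subgroup (Equiv.Perm GolayPt)} (hH : H ≤ G23)
    (hc : Nat.card H = 40320) :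
    ∃ c ∈ G23, syl23Sub ≤ H.map (MulAut.conj c).toMonoidHom := by
  haveI : Fact (Nat.Prime 2) := ⟨Nat.prime_two⟩
  let H' : Subgroup G23 := H.subgroupOf G23
  let S' : Subgroup G23 := syl23Sub.subgroupOf G23
  have hcS : Nat.card S' = 2 ^ 7 := by
    rw [Nat.card_congr (Subgroup.subgroupOfEquivOfLe syl23_le).toEquiv, card_syl23]; norm_num
  have hnd : ∀ P : Subgroup G23, Nat.card P = 2 ^ 7 → ¬ 2 ∣ P.index := by
    intro P hP hd
    have h := P.card_mul_index
    rw [hP, card_fix1] at h
    obtain ⟨k, hk⟩ := hd
    rw [hk] at h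
    omega
  obtain ⟨R, hR⟩ := Sylow.exists_subgroup_card_pow_prime (G := H) 2 (n := 7)
    (by rw [hc]; norm_num)
  let R' : Subgroup G23 := (R.map H.subtype).subgroupOf G23
  have hRle : R.map H.subtype ≤ G23 := (Subgroup.map_subtype_le R).trans hH
  have hcR : Nat.card R' = 2 ^ 7 := by
    rw [Nat.card_congr (Subgroup.subgroupOfEquivOfLe hRle).toEquiv,
      Subgroup.card_map_of_injective H.subtype_injective, hR]
  let P : Sylow 2 G23 := (IsPGroup.of_card hcS).toSylow (hnd _ hcS)
  let P' : Sylow 2 G23 := (IsPGroup.of_card hcR).toSylow (hnd _ hcR)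
  obtain ⟨c, hcc⟩ := MulAction.exists_smul_eq G23 P' P
  refine ⟨c, c.2, fun g hg => ?_⟩
  have hg' : (⟨g, syl23_le hg⟩ : G23) ∈ ((c • P' : Sylow 2 G23) : Subgroup G23) := hcc ▸ hg
  obtain ⟨u, hu, huv⟩ := hg'
  exact ⟨u, Subgroup.map_subtype_le R (show (u : Equiv.Perm GolayPt) ∈ R.map H.subtype from hu),
    congrArg Subtype.val huv⟩

end CfsgLib.M24Cert
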