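import Mathlib

/-!
Counting the Sylow subgroups of prime order of a subgroup against a known normaliser.
-/

set_option autoImplicit false

namespace CfsgLib.M24Cert

/-- The Sylow count for a subgroup `K` containing an element `a` of prime order `p`, when every
element of `K` normalising `⟨a⟩` lies in `N`. -/
theorem exists_count {G : Type*} [Group G] [Finite G] {p : ℕ} [hp : Fact p.Prime]
    {K N : Subgroup G} {a : G} (ha : a ∈ K) (hord : orderOf a = p)
    (hsq : ¬ p ^ 2 ∣ Nat.card K)
    (hN : ∀ g ∈ K, g * a * g⁻¹ ∈ Subgroup.zpowers a → g ∈ N) :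
    ∃ n m, n % p = 1 ∧ Nat.card K = n * m ∧ m ∣ Nat.card N ∧ (m = Nat.card N → N ≤ K) ∧
      ((∀ g ∈ N, g * a * g⁻¹ ∈ Subgroup.zpowers a) → N ≤ K → m = Nat.card N) := by
  have hle : Subgroup.zpowers a ≤ K := Subgroup.zpowers_le.2 ha
  let P : Subgroup K := (Subgroup.zpowers a).subgroupOf K
  have hP : Nat.card P = p := by
    rw [Nat.card_congr (Subgroup.subgroupOfEquivOfLe hle).toEquiv, Nat.card_zpowers, hord]
  have hind : ¬ p ∣ P.index := fun h => hsq (by
    rw [← P.card_mul_index, hP, pow_two]
    exact Nat.mul_dvd_mul_left _ h)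
  let S : Sylow p K := (IsPGroup.of_card (n := 1) (by rw [hP, pow_one])).toSylow hind
  let N' : Subgroup G := (Subgroup.normalizer (P : Set K)).map K.subtype
  have hN' : N' ≤ N := by
    rintro _ ⟨g, hg, rfl⟩
    refine hN g g.2 ?_
    have h := (Subgroup.mem_normalizer_iff.1 hg ⟨a, ha⟩).1 (Subgroup.mem_zpowers a)
    exact h
  have hN'K : N' ≤ K := Subgroup.map_subtype_le _
  refine ⟨Nat.card (Sylow p K), Nat.card N', ?_, ?_, Subgroup.card_dvd_of_le hN', ?_, ?_⟩
  · have := card_sylow_modEq_one p K
    rw [Nat.ModEq] at this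
    rw [this, Nat.mod_eq_of_lt hp.out.one_lt]
  · rw [Subgroup.card_map_of_injective K.subtype_injective, Sylow.card_eq_index_normalizer S,
      show Subgroup.normalizer (S : Set K) = Subgroup.normalizer (P : Set K) from rfl,
      Nat.mul_comm, Subgroup.card_mul_index]
  · intro h
    rw [← Subgroup.eq_of_le_of_card_ge hN' h.ge]
    exact hN'K
  · intro hconj hNK
    refine congrArg (fun H : Subgroup G => Nat.card H) (le_antisymm hN' fun g hg => ?_)
    refine ⟨⟨g, hNK hg⟩, ?_, rfl⟩
    rw [SetLike.mem_coe, Subgroup.mem_normalizer_iff]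
    intro x
    show (x : G) ∈ Subgroup.zpowers a ↔ g * (x : G) * g⁻¹ ∈ Subgroup.zpowers a
    have hmap : (Subgroup.zpowers a).map (MulAut.conj g).toMonoidHom = Subgroup.zpowers a := by
      refine Subgroup.eq_of_le_of_card_ge ?_ (Subgroup.card_map_of_injective (MulAut.conj g).injective).ge
      rw [MonoidHom.map_zpowers, Subgroup.zpowers_le]
      exact hconj g hg
    constructor
    · intro hx
      rw [← hmap]
      exact ⟨x, hx, rfl⟩
    · intro hx
      rw [← hmap] at hx
      obtain ⟨y, hy, hyx⟩ := hx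
      rwa [← (MulAut.conj g).injective hyx]

end CfsgLib.M24Cert
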