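import Cfsg.Agent.Lib.M24Cert.ElevenChecks
import Cfsg.Agent.Lib.M24Cert.SylowCount
import Cfsg.Agent.Lib.Golay.Mathieu

/-!
Normalisers of elements of order 11 and 23 in the Mathieu groups of degree 22 and 23.
-/

set_option autoImplicit false

namespace CfsgLib.M24Cert

open Cfsg CfsgLib.Golay CfsgLib.Comp CfsgLib.M24Elt
open scoped Pointwise

theorem exists_of_allLt_not {k : ℕ} {f : ℕ → Bool} (h : (!allLt k fun i => !f i) = true) :
    ∃ i < k, f i = true := by
  by_contra hne
  have : ∀ m ≤ k, allLt m (fun i => !f i) = true := by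
    intro m hm
    induction m with
    | zero => rfl
    | succ m ih =>
      refine Bool.and_eq_true_iff.2 ⟨?_, ih (by omega)⟩
      rw [Bool.not_eq_true']
      exact Bool.eq_false_iff.2 fun e => hne ⟨m, by omega, e⟩
  rw [this k le_rfl] at h
  exact Bool.noConfusion h

theorem inM24_of_mem {σ : Equiv.Perm GolayPt} {c : ℕ} (h : IsPermOf σ c) (hσ : σ ∈ M24) :
    inM24 c = true := by
  rw [inM24, List.all_eq_true]
  intro b hb
  rw [← toWord_mem_iff (pull_lt c b), toWord_pull h]
  exact M24_comp hσ (basis_mem hb)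

theorem testBit_mask_iff {p j : ℕ} : ∀ {k : ℕ},
    (PermCode.mask k p).testBit j = true ↔ ∃ i, i < k ∧ PermCode.get p i = j
  | 0 => by simp [show PermCode.mask 0 p = 0 from rfl]
  | k + 1 => by
    rw [PermCode.mask_succ, Nat.testBit_lor, Bool.or_eq_true, testBit_mask_iff, Nat.one_shiftLeft,
      Nat.testBit_two_pow, decide_eq_true_eq]
    constructor
    · rintro (⟨i, hi, he⟩ | he)
      · exact ⟨i, by omega, he⟩
      · exact ⟨k, by omega, he⟩
    · rintro ⟨i, hi, he⟩
      rcases Nat.lt_succ_iff_lt_or_eq.1 hi with hi | rfl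
      · exact Or.inl ⟨i, hi, he⟩
      · exact Or.inr he

theorem okb_of_ok {p : ℕ} (h : PermCode.Ok 24 p) : PermCode.okb 24 p = true := by
  rw [PermCode.okb, Bool.and_eq_true]
  refine ⟨PermCode.allLt_of fun i hi => by rw [Nat.blt_eq]; exact h.1 i hi, ?_⟩
  rw [Nat.beq_eq]
  show PermCode.mask 24 p = 2 ^ 24 - 1
  refine Nat.eq_of_testBit_eq fun j => ?_
  rw [Nat.testBit_two_pow_sub_one, Bool.eq_iff_iff, testBit_mask_iff, decide_eq_true_eq]
  constructor
  · rintro ⟨i, hi, rfl⟩; exact h.1 i hi
  · intro hj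
    have hinj : Function.Injective (fun i : Fin 24 => (⟨PermCode.get p i, h.1 i i.2⟩ : Fin 24)) :=
      fun a b e => Fin.ext (h.2 a b a.2 b.2 (congrArg Fin.val e))
    obtain ⟨i, hi⟩ := Finite.injective_iff_surjective.1 hinj ⟨j, hj⟩
    exact ⟨i, i.2, congrArg Fin.val hi⟩

/-- The stabiliser of the extra point and zero. -/
abbrev G22 : Subgroup (Equiv.Perm GolayPt) := fixPts M24 [some 0, none]

/-- The stabiliser of the extra point. -/
abbrev G23 : Subgroup (Equiv.Perm GolayPt) := fixPts M24 [none]

/-- Multiplication by two. -/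
noncomputable def mulTwo : Equiv.Perm GolayPt := pm twoCode

/-- Translation by one. -/
noncomputable def addOne : Equiv.Perm GolayPt := pm trCode

theorem bit_pm_app {c : ℕ} (h : good c = true) (p : GolayPt) : bit (pm c p) = app c (bit p) :=
  (isPermOf_pm (good_ok h) p).symm

theorem mulTwo_none : mulTwo none = none :=
  bit_injective ((bit_pm_app code_goods.2.1 _).trans two_fix.1)

theorem mulTwo_some (x : ZMod 23) : mulTwo (some x) = some (2 * x) :=
  bit_injective ((bit_pm_app code_goods.2.1 _).trans (two_point x))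

theorem addOne_none : addOne none = none :=
  bit_injective ((bit_pm_app code_goods.1 _).trans two_fix.2.2)

theorem addOne_some (x : ZMod 23) : addOne (some x) = some (x + 1) :=
  bit_injective ((bit_pm_app code_goods.1 _).trans (tr_point x))

theorem mulTwo_pow (n : ℕ) (x : ZMod 23) : (mulTwo ^ n) (some x) = some (2 ^ n * x) := by
  induction n with
  | zero => simp
  | succ n ih =>
    rw [pow_succ', Equiv.Perm.mul_apply, ih, mulTwo_some]
    congr 1
    ring

theorem addOne_pow (n : ℕ) (x : ZMod 23) : (addOne ^ n) (some x) = some (x + n) := by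
  induction n with
  | zero => simp
  | succ n ih =>
    rw [pow_succ', Equiv.Perm.mul_apply, ih, addOne_some]
    congr 1
    push_cast
    ring

theorem mulTwo_mem : mulTwo ∈ G22 :=
  ⟨pm_mem code_goods.2.1, by
    simp only [List.forall_mem_cons, List.not_mem_nil, IsEmpty.forall_iff, implies_true, and_true]
    exact ⟨(mulTwo_some 0).trans (by simp), mulTwo_none⟩⟩

theorem addOne_mem : addOne ∈ G23 :=
  ⟨pm_mem code_goods.1, by simp [addOne_none]⟩

theorem orderOf_mulTwo : orderOf mulTwo = 11 := by
  haveI : Fact (Nat.Prime 11) := ⟨by norm_num⟩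
  exact orderOf_pm (good_ok code_goods.2.1) code_goods.2.2.2.2.2.2.1 code_goods.2.2.2.2.1

theorem orderOf_addOne : orderOf addOne = 23 := by
  haveI : Fact (Nat.Prime 23) := ⟨by norm_num⟩
  exact orderOf_pm (good_ok code_goods.1) code_goods.2.2.2.2.2.2.2.1 code_goods.2.2.2.2.2.1

/-- The normaliser of multiplication by two in the two-point stabiliser. -/
noncomputable def norm11 : Subgroup (Equiv.Perm GolayPt) :=
  G22 ⊓ Subgroup.normalizer (Subgroup.zpowers mulTwo : Set (Equiv.Perm GolayPt))

theorem exists_pow_of_mem {a x : Equiv.Perm GolayPt} (h : x ∈ Subgroup.zpowers a) :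
    ∃ k < orderOf a, x = a ^ k := by
  classical
  obtain ⟨k, hk, rfl⟩ := Finset.mem_image.1 (mem_zpowers_iff_mem_range_orderOf.1 h)
  exact ⟨k, Finset.mem_range.1 hk, rfl⟩

theorem pm_build_eq {g : Equiv.Perm GolayPt} {f : ℕ → ℕ} (hg : g ∈ M24)
    (hf : ∀ p, f (bit p) = bit (g p)) :
    good (PermCode.build 24 f) = true ∧ pm (PermCode.build 24 f) = g := by
  have hlt : ∀ n < 24, f n < 256 := fun n hn => by
    have := bit_lt (g (Golay.pt n))
    rw [← hf, bit_pt hn] at this
    omega
  have hget : ∀ p, app (PermCode.build 24 f) (bit p) = bit (g p) := fun p => by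
    rw [app_eq_get, PermCode.get_build 24 f hlt _ (bit_lt p), hf]
  have hok : PermCode.Ok 24 (PermCode.build 24 f) := by
    refine ⟨fun i hi => ?_, fun i j hi hj he => ?_⟩
    · rw [← app_eq_get]
      have := hget (Golay.pt i)
      rw [bit_pt hi] at this
      rw [this]; exact bit_lt _
    · have h1 := hget (Golay.pt i)
      have h2 := hget (Golay.pt j)
      rw [bit_pt hi] at h1
      rw [bit_pt hj] at h2
      rw [← app_eq_get, ← app_eq_get, h1, h2] at he
      have := congrArg bit (g.injective (bit_injective he))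
      rwa [bit_pt hi, bit_pt hj] at this
  have heq : pm (PermCode.build 24 f) = g :=
    Equiv.ext fun p => bit_injective ((isPermOf_pm hok p).symm.trans (hget p))
  refine ⟨?_, heq⟩
  have hmask : PermCode.okb 24 (PermCode.build 24 f) = true := okb_of_ok hok
  rw [good, hmask, Bool.true_and]
  exact inM24_of_mem (isPermOf_pm hok) (heq.symm ▸ hg)

/-- The elements of the normaliser. -/
theorem exists_code_norm11 {g : Equiv.Perm GolayPt} (hg : g ∈ G22)
    (hgn : g * mulTwo * g⁻¹ ∈ Subgroup.zpowers mulTwo) : ∃ c ∈ elevenNorm, pm c = g := by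
  obtain ⟨k, hk, hk'⟩ := exists_pow_of_mem hgn
  rw [orderOf_mulTwo] at hk
  have hk0 : k ≠ 0 := by
    rintro rfl
    rw [pow_zero, mul_inv_eq_one] at hk'
    have := orderOf_mulTwo
    rw [mul_left_cancel (hk'.trans (mul_one g).symm)] at this
    simp at this
  have hg0 : g (some 0) = some 0 := hg.2 _ (by simp)
  have hgn' : g none = none := hg.2 _ (by simp)
  have hmove : ∀ x : ZMod 23, x ≠ 0 → ∃ y : ZMod 23, y ≠ 0 ∧ g (some x) = some y := by
    intro x hx
    cases hc : g (some x) with
    | none => exact absurd (g.injective (hc.trans hgn'.symm)) (by simp)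
    | some y =>
      refine ⟨y, fun hy => hx ?_, rfl⟩
      subst hy
      exact Option.some_injective _ (g.injective (hc.trans hg0.symm))
  obtain ⟨i, hi0, hgi⟩ := hmove 1 (by decide)
  obtain ⟨j, hj0, hgj⟩ := hmove 5 (by decide)
  have hcomm : ∀ (t : ℕ) (x y : ZMod 23), g (some x) = some y →
      g (some (2 ^ t * x)) = some (2 ^ (k * t) * y) := by
    intro t x y h
    rw [← mulTwo_pow, ← mulTwo_pow, ← h, pow_mul, ← hk', conj_pow]
    simp [Equiv.Perm.mul_apply]
  have hval : ∀ (n : ℕ) (y : ZMod 23), ((2 : ZMod 23) ^ n * y).val = 2 ^ n * y.val % 23 := fun n y => by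
    rw [← ZMod.val_natCast (n := 23) (2 ^ n * y.val)]
    push_cast
    rw [ZMod.natCast_zmod_val]
  have hf : ∀ p, normFun k i.val j.val (bit p) = bit (g p) := by
    rintro (_ | x)
    · rw [hgn']; rfl
    · by_cases hx : x = 0
      · subst hx; rw [hg0]; rfl
      · have hb : bit (some x : GolayPt) = x.val := rfl
        have hx0 : x.val ≠ 0 := fun h => hx ((ZMod.val_eq_zero x).1 h)
        have hlt := ZMod.val_lt x
        have horb := allLt_spec orbit_points _ hlt
        simp only [Bool.or_eq_true, Nat.beq_eq, hx0, false_or] at horb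
        obtain ⟨t₀, ht₀, htr⟩ := exists_of_allLt_not horb
        suffices hrec : ∀ m, (∃ t < m, (2 ^ t % 23 = x.val ∨ 5 * 2 ^ t % 23 = x.val)) →
            (Nat.rec (motive := fun _ => ℕ) 0 (fun t ih =>
              bif Nat.beq (2 ^ t % 23) x.val then 2 ^ (k * t) * i.val % 23
              else bif Nat.beq (5 * 2 ^ t % 23) x.val then 2 ^ (k * t) * j.val % 23 else ih) m : ℕ)
              = bit (g (some x)) by
          rw [hb, normFun]
          have h23 : Nat.beq x.val 23 = false := Bool.eq_false_iff.2 (by simp; omega)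
          have h0 : Nat.beq x.val 0 = false := Bool.eq_false_iff.2 (by simpa using hx0)
          rw [h23, h0]
          simp only [Bool.or_self, cond_false]
          simp only [Bool.or_eq_true, Nat.beq_eq] at htr
          exact hrec 11 ⟨t₀, ht₀, htr⟩
        intro m
        induction m with
        | zero => rintro ⟨t, ht, -⟩; omega
        | succ m ih =>
          intro hex
          simp only
          cases h1 : Nat.beq (2 ^ m % 23) x.val
          · cases h2 : Nat.beq (5 * 2 ^ m % 23) x.val
            · simp only [cond_false]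
              refine ih ?_
              obtain ⟨t, ht, hc⟩ := hex
              refine ⟨t, ?_, hc⟩
              rcases Nat.lt_succ_iff_lt_or_eq.1 ht with h | h
              · exact h
              · subst h
                rcases hc with hc | hc
                · simp [hc] at h1
                · simp [hc] at h2
            · simp only [cond_false, cond_true]
              have hx' : x = 2 ^ m * 5 := ZMod.val_injective 23 (by
                rw [hval, ← Nat.eq_of_beq_eq_true h2, Nat.mul_comm]; rfl)
              rw [hx', hcomm m 5 j hgj]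
              exact (hval _ _).symm
          · simp only [cond_true]
            have hx' : x = 2 ^ m * 1 := ZMod.val_injective 23 (by
              rw [hval, ← Nat.eq_of_beq_eq_true h1, show (1 : ZMod 23).val = 1 from rfl, mul_one])
            rw [hx', hcomm m 1 i hgi]
            exact (hval _ _).symm
  obtain ⟨hgood, hpm⟩ := pm_build_eq hg.1 hf
  have h := allLt_spec (allLt_spec (allLt_spec eleven_check k hk) _ (ZMod.val_lt i)) _ (ZMod.val_lt j)
  have hi' : i.val ≠ 0 := fun e => hi0 ((ZMod.val_eq_zero i).1 e)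
  have hj' : j.val ≠ 0 := fun e => hj0 ((ZMod.val_eq_zero j).1 e)
  rw [hgood, Bool.eq_false_iff.2 (show ¬ Nat.beq k 0 = true by simpa using hk0),
    Bool.eq_false_iff.2 (show ¬ Nat.beq i.val 0 = true by simpa using hi'),
    Bool.eq_false_iff.2 (show ¬ Nat.beq j.val 0 = true by simpa using hj')] at h
  simp only [Bool.not_false, Bool.and_self, Bool.not_true, Bool.false_or, List.any_eq_true] at h
  obtain ⟨c, hc, hec⟩ := h
  refine ⟨c, hc, ?_⟩
  rw [← hpm]
  exact (pm_eq_of_eqc (good_ok hgood) (good_ok (List.all_eq_true.1 code_goods.2.2.2.1 c hc)) hec).symm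

theorem mem_norm11_of_code {c : ℕ} (hc : c ∈ elevenNorm) : pm c ∈ norm11 := by
  have hg := List.all_eq_true.1 code_goods.2.2.2.1 c hc
  have h := List.all_eq_true.1 eleven_fix.1 c hc
  simp only [Bool.and_eq_true, Nat.beq_eq] at h
  obtain ⟨⟨h23, h0⟩, hk⟩ := h
  obtain ⟨k, -, hk⟩ := exists_of_allLt_not hk
  refine ⟨⟨pm_mem hg, ?_⟩, ?_⟩
  · simp only [List.forall_mem_cons, List.not_mem_nil, IsEmpty.forall_iff, implies_true, and_true]
    exact ⟨bit_injective ((bit_pm_app hg _).trans h0), bit_injective ((bit_pm_app hg _).trans h23)⟩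
  · have hok := good_ok code_goods.2.1
    have e := pm_eq_of_eqc (PermCode.ok_mul (by norm_num) (good_ok hg) hok)
      (PermCode.ok_mul (by norm_num) (powc_ok hok k) (good_ok hg)) hk
    rw [pm_mul (good_ok hg) hok, pm_mul (powc_ok hok k) (good_ok hg), pm_powc hok] at e
    have hmap : (Subgroup.zpowers mulTwo).map (MulAut.conj (pm c)).toMonoidHom =
        Subgroup.zpowers mulTwo := by
      refine Subgroup.eq_of_le_of_card_ge ?_
        (Subgroup.card_map_of_injective (MulAut.conj (pm c)).injective).ge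
      rw [MonoidHom.map_zpowers, Subgroup.zpowers_le]
      show pm c * mulTwo * (pm c)⁻¹ ∈ _
      rw [mulTwo, e, mul_inv_cancel_right]
      exact ⟨(k : ℤ), zpow_natCast _ _⟩
    show pm c ∈ Subgroup.normalizer (Subgroup.zpowers mulTwo : Set (Equiv.Perm GolayPt))
    rw [Subgroup.mem_normalizer_iff]
    intro x
    constructor
    · intro hx
      rw [← hmap]
      exact ⟨x, hx, rfl⟩
    · intro hx
      rw [← hmap] at hx
      obtain ⟨y, hy, hyx⟩ := hx
      rwa [← (MulAut.conj (pm c)).injective hyx]

theorem mem_norm11 {g : Equiv.Perm GolayPt} (hg : g ∈ G22)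
    (hgn : g * mulTwo * g⁻¹ ∈ Subgroup.zpowers mulTwo) : g ∈ norm11 := by
  obtain ⟨c, hc, rfl⟩ := exists_code_norm11 hg hgn
  exact mem_norm11_of_code hc

theorem conj_mulTwo_of_mem {g : Equiv.Perm GolayPt} (hg : g ∈ norm11) :
    g * mulTwo * g⁻¹ ∈ Subgroup.zpowers mulTwo :=
  (Subgroup.mem_normalizer_iff.1 hg.2 mulTwo).1 (Subgroup.mem_zpowers _)

theorem card_norm11 : Nat.card norm11 = 55 := by
  have hlen : elevenNorm.length = 55 := code_goods.2.2.2.2.2.2.2.2
  let F : Fin 55 → norm11 := fun i =>
    ⟨pm (elevenNorm[i.1]'(by omega)), mem_norm11_of_code (List.getElem_mem _)⟩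
  refine (Nat.card_eq_of_bijective F ⟨?_, ?_⟩).symm.trans (Nat.card_fin 55)
  · intro i j hij
    have h : pm (elevenNorm[i.1]'(by omega)) = pm (elevenNorm[j.1]'(by omega)) :=
      congrArg Subtype.val hij
    have hg : ∀ (n : ℕ) (hn : n < elevenNorm.length), PermCode.Ok 24 elevenNorm[n] := fun n hn =>
      good_ok (List.all_eq_true.1 code_goods.2.2.2.1 _ (List.getElem_mem hn))
    by_contra hne
    rcases lt_or_gt_of_ne (fun e : i.1 = j.1 => hne (Fin.ext e)) with hl | hl
    · have := allLt_spec (allLt_spec eleven_fix.2 j.1 j.2) i.1 hl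
      rw [List.getD_eq_getElem _ _ (by omega), List.getD_eq_getElem _ _ (by omega),
        eqc_of_pm_eq (hg _ (by omega)) (hg _ (by omega)) h.symm] at this
      exact Bool.noConfusion this
    · have := allLt_spec (allLt_spec eleven_fix.2 i.1 i.2) j.1 hl
      rw [List.getD_eq_getElem _ _ (by omega), List.getD_eq_getElem _ _ (by omega),
        eqc_of_pm_eq (hg _ (by omega)) (hg _ (by omega)) h] at this
      exact Bool.noConfusion this
  · rintro ⟨g, hg⟩
    obtain ⟨c, hc, rfl⟩ := exists_code_norm11 hg.1 (conj_mulTwo_of_mem hg)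
    obtain ⟨n, hn, rfl⟩ := List.mem_iff_getElem.1 hc
    exact ⟨⟨n, hlen ▸ hn⟩, rfl⟩

theorem addOne_normalizer {g : Equiv.Perm GolayPt} (hg : g ∈ G23)
    (hgn : g * addOne * g⁻¹ ∈ Subgroup.zpowers addOne) :
    ∃ u b : ZMod 23, u ^ 11 = 1 ∧ ∀ x : ZMod 23, g (some x) = some (u * x + b) := by
  obtain ⟨k, -, hk'⟩ := exists_pow_of_mem hgn
  have hgn' : g none = none := hg.2 _ (by simp)
  obtain ⟨b, hb⟩ : ∃ b, g (some 0) = some b := by
    cases hc : g (some 0) with
    | none => exact absurd (g.injective (hc.trans hgn'.symm)) (by simp)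
    | some b => exact ⟨b, rfl⟩
  have hall : ∀ x : ZMod 23, g (some x) = some ((k : ZMod 23) * x + b) := by
    intro x
    have hx : (some x : GolayPt) = (addOne ^ x.val) (some 0) := by
      rw [addOne_pow, zero_add, ZMod.natCast_zmod_val]
    calc g (some x) = ((g * addOne * g⁻¹) ^ x.val) (g (some 0)) := by
          rw [conj_pow, hx]; simp [Equiv.Perm.mul_apply]
      _ = some ((k : ZMod 23) * x + b) := by
          rw [hk', ← pow_mul, hb, addOne_pow]
          push_cast
          rw [ZMod.natCast_zmod_val]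
          congr 1
          ring
  refine ⟨k, b, ?_, hall⟩
  have hf : ∀ p, affFun (k % 23) b.val (bit p) = bit (g p) := by
    rintro (_ | x)
    · rw [hgn']; rfl
    · rw [hall x, affFun, show bit (some x : GolayPt) = x.val from rfl,
        show bit (some ((k : ZMod 23) * x + b) : GolayPt) = ((k : ZMod 23) * x + b).val from rfl,
        Bool.eq_false_iff.2 (show ¬ Nat.beq x.val 23 = true by
          have := ZMod.val_lt x; simp; omega), cond_false, ← ZMod.val_natCast]
      congr 1
      push_cast
      rw [ZMod.natCast_zmod_val, ZMod.natCast_zmod_val]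
      congr 2
      exact ZMod.natCast_mod k 23
  obtain ⟨hgood, -⟩ := pm_build_eq hg.1 hf
  have h := allLt_spec (allLt_spec affine_check _ (Nat.mod_lt k (by norm_num))) _ (ZMod.val_lt b)
  rw [hgood, Bool.not_true, Bool.false_or, Nat.beq_eq] at h
  have : (((k % 23) ^ 11 % 23 : ℕ) : ZMod 23) = ((1 : ℕ) : ZMod 23) := by rw [h]
  rw [ZMod.natCast_mod, Nat.cast_pow, ZMod.natCast_mod, Nat.cast_one] at this
  exact this

end CfsgLib.M24Cert
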