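import Cfsg.Agent.Lib.M24Cert.PSLElevenCheck
import Cfsg.Agent.Lib.Linear.Card
import Cfsg.Agent.Lib.Linear.LineModel

/-!
The special linear group over eleven elements maps onto the stabiliser of two points.
-/

set_option autoImplicit false

namespace CfsgLib.M24Cert

open Cfsg CfsgLib.Golay
open scoped Pointwise MatrixGroups

local instance fact_prime_eleven : Fact (Nat.Prime 11) := ⟨by norm_num⟩

/-- The image of a matrix, as a permutation. -/
noncomputable def pslP (a b c d : ℕ) : Equiv.Perm GolayPt :=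
  bif Nat.beq c 0 then M24Calc.ofCode (pslH.getD a 0) * M24Calc.ofCode (pslT.getD (b * a ^ 9 % 11) 0)
  else M24Calc.ofCode (pslT.getD (a * c ^ 9 % 11) 0) * (M24Calc.ofCode pslW *
    (M24Calc.ofCode (pslH.getD c 0) * M24Calc.ofCode (pslT.getD (d * c ^ 9 % 11) 0)))

theorem pslP_spec {a b c d : ℕ} (ha : a < 11) (hc : c < 11) (hdet : det1 a b c d = true) :
    pslP a b c d ∈ fixPts Spor.M12 [none, some 0] ∧ M24Calc.IsFun (pslP a b c d) (pslF a b c d) := by
  have hT : ∀ k, good12 [none, some 0] (pslT.getD (k % 11) 0) = true := fun k =>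
    (Bool.and_eq_true_iff.1 (allLt_spec psl_codes.1 _ (Nat.mod_lt k (by norm_num)))).1
  have hH : ∀ k < 11, k ≠ 0 → good12 [none, some 0] (pslH.getD k 0) = true := fun k hk hk0 => by
    have := (Bool.and_eq_true_iff.1 (allLt_spec psl_codes.1 k hk)).2
    simpa [hk0] using this
  unfold pslP pslF
  cases hc0 : Nat.beq c 0
  · have hc' : c ≠ 0 := fun h => by simp [h] at hc0
    simp only [cond_false]
    exact ⟨mul_mem (mem_of_good12 (hT _)) (mul_mem (mem_of_good12 psl_codes.2)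
      (mul_mem (mem_of_good12 (hH c hc hc')) (mem_of_good12 (hT _)))),
      (isFun_of_good12 (hT _)).mul ((isFun_of_good12 psl_codes.2).mul
        ((isFun_of_good12 (hH c hc hc')).mul (isFun_of_good12 (hT _))))⟩
  · obtain rfl : c = 0 := Nat.eq_of_beq_eq_true hc0
    have ha' : a ≠ 0 := fun h => by simp [det1, h] at hdet
    simp only [cond_true]
    exact ⟨mul_mem (mem_of_good12 (hH a ha ha')) (mem_of_good12 (hT _)),
      (isFun_of_good12 (hH a ha ha')).mul (isFun_of_good12 (hT _))⟩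

/-- The map on matrices. -/
noncomputable def pslMap (M : SL(2, ZMod 11)) : Equiv.Perm GolayPt :=
  pslP (M 0 0).val (M 0 1).val (M 1 0).val (M 1 1).val

theorem det1_SL (M : SL(2, ZMod 11)) :
    det1 (M 0 0).val (M 0 1).val (M 1 0).val (M 1 1).val = true := by
  rw [det1, Nat.beq_eq]
  have hdet : (M 0 0) * (M 1 1) - (M 0 1) * (M 1 0) = 1 := by
    rw [← Matrix.det_fin_two]; exact M.2
  have h : (((M 0 0).val * (M 1 1).val + 10 * ((M 0 1).val * (M 1 0).val) : ℕ) : ZMod 11) =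
      ((1 : ℕ) : ZMod 11) := by
    push_cast
    rw [ZMod.natCast_zmod_val, ZMod.natCast_zmod_val, ZMod.natCast_zmod_val, ZMod.natCast_zmod_val,
      show (10 : ZMod 11) = -1 by decide]
    linear_combination hdet
  exact ((ZMod.natCast_eq_natCast_iff' _ _ _).1 h)

theorem pslMap_spec (M : SL(2, ZMod 11)) : pslMap M ∈ fixPts Spor.M12 [none, some 0] ∧
    M24Calc.IsFun (pslMap M) (pslF (M 0 0).val (M 0 1).val (M 1 0).val (M 1 1).val) :=
  pslP_spec (ZMod.val_lt _) (ZMod.val_lt _) (det1_SL M)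

/-- The standard transvection. -/
def slT : SL(2, ZMod 11) := ⟨!![1, 1; 0, 1], by decide⟩

/-- The standard Weyl element. -/
def slS : SL(2, ZMod 11) := ⟨!![0, -1; 1, 0], by decide⟩

theorem slT_eq : Matrix.SpecialLinearGroup.transvection (show (0 : Fin 2) ≠ 1 by decide)
    (1 : ZMod 11) = slT := by
  ext i j
  fin_cases i <;> fin_cases j <;> simp [Matrix.SpecialLinearGroup.transvection, slT, Matrix.transvection, Matrix.single]

theorem slL_eq : Matrix.SpecialLinearGroup.transvection (show (1 : Fin 2) ≠ 0 by decide)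
    (1 : ZMod 11) = slS * slT⁻¹ * slS⁻¹ := by
  apply Subtype.ext
  rw [Matrix.SpecialLinearGroup.coe_mul, Matrix.SpecialLinearGroup.coe_mul,
    Matrix.SpecialLinearGroup.coe_inv, Matrix.SpecialLinearGroup.coe_inv]
  ext i j
  fin_cases i <;> fin_cases j <;> simp [Matrix.SpecialLinearGroup.transvection, slT, slS,
    Matrix.transvection, Matrix.single, Matrix.adjugate_fin_two, Matrix.mul_apply, Fin.sum_univ_two]

theorem slGens : Subgroup.closure ({slT, slS} : Set SL(2, ZMod 11)) = ⊤ := by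
  have hT : slT ∈ Subgroup.closure ({slT, slS} : Set SL(2, ZMod 11)) :=
    Subgroup.subset_closure (by simp)
  have hS : slS ∈ Subgroup.closure ({slT, slS} : Set SL(2, ZMod 11)) :=
    Subgroup.subset_closure (by simp)
  refine CfsgLib.Linear.SL2_eq_top_of_gens _ {1} (AddSubgroup.eq_top_iff' _ |>.2 fun x => ?_) ?_
  · rw [← ZMod.natCast_zmod_val x, ← nsmul_one]
    exact nsmul_mem (AddSubgroup.mem_closure_singleton_self 1) _
  · rintro b rfl
    exact ⟨slT_eq ▸ hT, slL_eq ▸ mul_mem (mul_mem hS (inv_mem hT)) (inv_mem hS)⟩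

theorem coe_mul_slT (M : SL(2, ZMod 11)) :
    (M * slT) 0 0 = M 0 0 ∧ (M * slT) 0 1 = M 0 0 + M 0 1 ∧
    (M * slT) 1 0 = M 1 0 ∧ (M * slT) 1 1 = M 1 0 + M 1 1 := by
  rw [Matrix.SpecialLinearGroup.coe_mul]
  simp [slT, Matrix.mul_apply, Fin.sum_univ_two]

theorem coe_mul_slS (M : SL(2, ZMod 11)) :
    (M * slS) 0 0 = M 0 1 ∧ (M * slS) 0 1 = -M 0 0 ∧
    (M * slS) 1 0 = M 1 1 ∧ (M * slS) 1 1 = -M 1 0 := by
  rw [Matrix.SpecialLinearGroup.coe_mul]
  simp [slS, Matrix.mul_apply, Fin.sum_univ_two]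

theorem pslMap_step (M : SL(2, ZMod 11)) :
    pslMap (M * slT) = pslMap M * pslMap slT ∧ pslMap (M * slS) = pslMap M * pslMap slS ∧
    (pslMap M = 1 ↔ (M 0 1 = 0 ∧ M 1 0 = 0 ∧ M 0 0 = M 1 1)) := by
  have hsp := pslMap_spec M
  have h := allLt_spec (allLt_spec (allLt_spec (allLt_spec psl_check _ (ZMod.val_lt (M 0 0))) _
    (ZMod.val_lt (M 0 1))) _ (ZMod.val_lt (M 1 0))) _ (ZMod.val_lt (M 1 1))
  rw [det1_SL, Bool.not_true, Bool.false_or] at h
  simp only [Bool.and_eq_true, Bool.or_eq_true, Bool.not_eq_true', Nat.beq_eq] at h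
  obtain ⟨⟨⟨e1, e2⟩, e3⟩, e4⟩ := h
  have hneg : ∀ x : ZMod 11, (-x).val = (11 - x.val) % 11 := fun x => ZMod.neg_val' x
  have v0 : ((0 : ZMod 11)).val = 0 := rfl
  refine ⟨?_, ?_, ?_, ?_⟩
  · refine M24Calc.eq_of_eqF (pslMap_spec _).2 (hsp.2.mul (pslMap_spec slT).2) ?_
    obtain ⟨c1, c2, c3, c4⟩ := coe_mul_slT M
    rw [c1, c2, c3, c4]
    simp only [ZMod.val_add]
    exact e1
  · refine M24Calc.eq_of_eqF (pslMap_spec _).2 (hsp.2.mul (pslMap_spec slS).2) ?_
    obtain ⟨c1, c2, c3, c4⟩ := coe_mul_slS M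
    rw [c1, c2, c3, c4]
    simp only [hneg]
    exact e2
  · intro h1
    rcases e3 with e3 | e3
    · rw [M24Calc.eqF_of_eq hsp.2 M24Calc.IsFun.one h1] at e3
      exact Bool.noConfusion e3
    · exact ⟨(ZMod.val_eq_zero _).1 e3.1.1, (ZMod.val_eq_zero _).1 e3.1.2,
        ZMod.val_injective _ e3.2⟩
  · rintro ⟨hb, hc, had⟩
    rcases e4 with e4 | e4
    · rw [hb, hc, had, v0] at e4
      simp at e4
    · exact M24Calc.eq_of_eqF hsp.2 M24Calc.IsFun.one e4

/-- The homomorphism. -/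
noncomputable def pslHom : SL(2, ZMod 11) →* Equiv.Perm GolayPt :=
  have h1 : pslMap 1 = 1 := (pslMap_step 1).2.2.2 ⟨by simp, by simp, by simp⟩
  { toFun := pslMap
    map_one' := h1
    map_mul' := map_mul_of_gens slGens h1 fun g s hs => by
      rcases hs with rfl | rfl
      · exact (pslMap_step g).1
      · exact (pslMap_step g).2.1 }

theorem ker_pslHom : pslHom.ker = Subgroup.center SL(2, ZMod 11) := by
  ext M
  rw [MonoidHom.mem_ker, Matrix.SpecialLinearGroup.mem_center_iff]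
  refine (pslMap_step M).2.2.trans ⟨fun ⟨hb, hc, had⟩ => ⟨M 0 0, ?_, ?_⟩, ?_⟩
  · have hdet : (M 0 0) * (M 1 1) - (M 0 1) * (M 1 0) = 1 := by
      rw [← Matrix.det_fin_two]; exact M.2
    rw [Fintype.card_fin]
    linear_combination hdet + (M 0 0) * had + (M 1 0) * hb
  · ext i j
    fin_cases i <;> fin_cases j <;> simp [Matrix.scalar_apply, hb, hc, had]
  · rintro ⟨r, -, hr⟩
    have e : ∀ i j, M i j = Matrix.scalar (Fin 2) r i j := fun i j => by rw [hr]
    simp [e, Matrix.scalar_apply]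

/-- The stabiliser of a point outside and a point inside is a projective special linear group. -/
theorem nonempty_pslEleven : Nonempty (↥(fixPts Spor.M12 [none, some 0]) ≃*
    Matrix.ProjectiveSpecialLinearGroup (Fin 2) (ZMod 11)) := by
  have hle : pslHom.range ≤ fixPts Spor.M12 [none, some 0] := by
    rintro _ ⟨M, rfl⟩; exact (pslMap_spec M).1
  let φ : Matrix.ProjectiveSpecialLinearGroup (Fin 2) (ZMod 11) ≃* pslHom.range :=
    (QuotientGroup.quotientMulEquivOfEq ker_pslHom.symm).trans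
      (QuotientGroup.quotientKerEquivRange pslHom)
  have hcard : Nat.card (Matrix.ProjectiveSpecialLinearGroup (Fin 2) (ZMod 11)) = 660 := by
    have h := CfsgLib.Linear.card_PSL_mul (n := Fin 2) (F := ZMod 11)
    rw [CfsgLib.Linear.card_SL_two, Fintype.card_fin, ZMod.card,
      show Nat.gcd 2 (11 - 1) = 2 by decide] at h
    rw [show 11 * (11 ^ 2 - 1) = 2 * 660 by norm_num] at h
    exact Nat.eq_of_mul_eq_mul_left (by norm_num) h
  have heq : pslHom.range = fixPts Spor.M12 [none, some 0] := by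
    refine Subgroup.eq_of_le_of_card_ge hle ?_
    rw [card_fix11_one, ← Nat.card_congr φ.toEquiv, hcard]
  exact ⟨(φ.trans (MulEquiv.subgroupCongr heq)).symm⟩

end CfsgLib.M24Cert
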