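import Cfsg.Agent.Lib.M24Cert.M12Sub

/-!
Kernel checks for the map from the special linear group over eleven elements.
-/

set_option autoImplicit false

namespace CfsgLib.M24Cert

open Cfsg CfsgLib.Golay

/-- The image of a matrix, as a function on bits. -/
noncomputable def pslF (a b c d : ℕ) : ℕ → ℕ :=
  bif Nat.beq c 0 then fun j => app (pslH.getD a 0) (app (pslT.getD (b * a ^ 9 % 11) 0) j)
  else fun j => app (pslT.getD (a * c ^ 9 % 11) 0)
    (app pslW (app (pslH.getD c 0) (app (pslT.getD (d * c ^ 9 % 11) 0) j)))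

theorem psl_codes : allLt 11 (fun k => good12 [none, some 0] (pslT.getD k 0) &&
      (Nat.beq k 0 || good12 [none, some 0] (pslH.getD k 0))) = true ∧
    good12 [none, some 0] pslW = true := by
  decide +kernel

/-- The determinant test. -/
def det1 (a b c d : ℕ) : Bool := Nat.beq ((a * d + 10 * (b * c)) % 11) 1

theorem psl_check : allLt 11 (fun a => allLt 11 fun b => allLt 11 fun c => allLt 11 fun d =>
    !det1 a b c d ||
      (M24Calc.eqF (pslF a ((a + b) % 11) c ((c + d) % 11))
          (fun j => pslF a b c d (pslF 1 1 0 1 j)) &&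
       M24Calc.eqF (pslF b ((11 - a) % 11) d ((11 - c) % 11))
          (fun j => pslF a b c d (pslF 0 10 1 0 j)) &&
       (!M24Calc.eqF (pslF a b c d) id ||
          (Nat.beq b 0 && Nat.beq c 0 && Nat.beq a d)) &&
       (!(Nat.beq b 0 && Nat.beq c 0 && Nat.beq a d) || M24Calc.eqF (pslF a b c d) id))) = true := by
  decide +kernel

end CfsgLib.M24Cert
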