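import Cfsg.Agent.Lib.M24Cert.Normalizers

/-!
The fractional linear group on 24 points and its point stabiliser are maximal.
-/

set_option autoImplicit false

namespace CfsgLib.M24Cert

open Cfsg CfsgLib.Golay CfsgLib.Comp CfsgLib.M24Elt
open scoped Pointwise

local instance fact_prime_twentythree : Fact (Nat.Prime 23) := ⟨by norm_num⟩

/-- The multiplications by squares. -/
def squareMaps : Set (Equiv.Perm GolayPt) :=
  {g | ∃ u : (ZMod 23)ˣ, IsSquare u ∧ g = Equiv.optionCongr (Units.mulLeft u)}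

/-- The point stabiliser `23:11`. -/
noncomputable def affSub : Subgroup (Equiv.Perm GolayPt) :=
  Subgroup.closure ({Equiv.optionCongr (Equiv.addRight (1 : ZMod 23))} ∪ squareMaps)

/-- The fractional linear group. -/
noncomputable def pslSub : Subgroup (Equiv.Perm GolayPt) :=
  Subgroup.closure ({Equiv.optionCongr (Equiv.addRight (1 : ZMod 23)), Cfsg.projInv} ∪ squareMaps)

theorem addRight_eq : Equiv.optionCongr (Equiv.addRight (1 : ZMod 23)) = addOne := by
  refine Equiv.ext fun p => ?_
  rcases p with _ | x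
  · exact addOne_none.symm
  · exact (addOne_some x).symm

theorem projInv_eq : pm invCode = Cfsg.projInv :=
  Equiv.ext fun p => bit_injective ((bit_pm_app code_goods.2.2.1 p).trans (inv_point p))

theorem square_eq_two_pow : ∀ x : ZMod 23, x ≠ 0 → ∃ n : Fin 11, x * x = 2 ^ (n : ℕ) := by
  decide +kernel

theorem mulTwo_mem_squareMaps : mulTwo ∈ squareMaps := by
  refine ⟨Units.mk0 (2 : ZMod 23) (by decide), ⟨Units.mk0 (5 : ZMod 23) (by decide), ?_⟩, ?_⟩
  · exact Units.ext (by decide)
  · refine Equiv.ext fun p => ?_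
    rcases p with _ | x
    · exact mulTwo_none
    · exact mulTwo_some x

theorem squareMaps_le : squareMaps ⊆ (Subgroup.zpowers mulTwo : Set (Equiv.Perm GolayPt)) := by
  rintro g ⟨u, ⟨v, rfl⟩, rfl⟩
  obtain ⟨n, hn⟩ := square_eq_two_pow (v : ZMod 23) v.ne_zero
  refine ⟨(n : ℕ), ?_⟩
  refine Equiv.ext fun p => ?_
  show (mulTwo ^ ((n : ℕ) : ℤ)) p = _
  rw [zpow_natCast]
  rcases p with _ | x
  · exact Equiv.Perm.pow_apply_eq_self_of_apply_eq_self mulTwo_none _
  · rw [mulTwo_pow, ← hn]; rfl

theorem addOne_mem_aff : addOne ∈ affSub :=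
  Subgroup.subset_closure (Or.inl addRight_eq.symm)

theorem mulTwo_mem_aff : mulTwo ∈ affSub :=
  Subgroup.subset_closure (Or.inr mulTwo_mem_squareMaps)

theorem aff_le {K : Subgroup (Equiv.Perm GolayPt)} (h1 : addOne ∈ K) (h2 : mulTwo ∈ K) :
    affSub ≤ K := by
  rw [affSub, Subgroup.closure_le]
  rintro g (hg | hg)
  · rw [Set.mem_singleton_iff.1 hg, addRight_eq]; exact h1
  · exact Subgroup.zpowers_le.2 h2 (squareMaps_le hg)

theorem pslSub_eq : pslSub = spanPts psl23Gens := by
  have hgens : psl23Gens = [trCode, twoCode, invCode] := by decide +kernel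
  refine le_antisymm ?_ ?_
  · rw [pslSub, Subgroup.closure_le]
    rintro g ((hg | hg) | hg)
    · rw [hg, addRight_eq]; exact pm_mem_spanPts (by simp [hgens])
    · rw [Set.mem_singleton_iff.1 hg, ← projInv_eq]; exact pm_mem_spanPts (by simp [hgens])
    · exact Subgroup.zpowers_le.2 (pm_mem_spanPts (by simp [hgens])) (squareMaps_le hg)
  · refine spanPts_le fun s hs => ?_
    simp only [hgens, List.mem_cons, List.not_mem_nil, or_false] at hs
    rcases hs with rfl | rfl | rfl
    · exact Subgroup.subset_closure (Or.inl (Or.inl addRight_eq.symm))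
    · exact Subgroup.subset_closure (Or.inr mulTwo_mem_squareMaps)
    · exact Subgroup.subset_closure (Or.inl (Or.inr projInv_eq))

theorem card_pslSub : Nat.card pslSub = 6072 := by
  rw [pslSub_eq, card_spanPts, psl23_card]

theorem pslSub_le : pslSub ≤ M24 := by
  rw [pslSub_eq]
  refine spanPts_le_M24 ?_
  decide +kernel

theorem aff_le_psl : affSub ≤ pslSub := by
  refine Subgroup.closure_mono ?_
  exact Set.union_subset_union_left _ (Set.singleton_subset_iff.2 (Set.mem_insert _ _))

/-- The normaliser of translation. -/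
noncomputable def norm23 : Subgroup (Equiv.Perm GolayPt) :=
  G23 ⊓ Subgroup.normalizer (Subgroup.zpowers addOne : Set (Equiv.Perm GolayPt))

theorem mulTwo_mem_G23 : mulTwo ∈ G23 := ⟨mulTwo_mem.1, by simp [mulTwo_none]⟩

theorem aff_le_norm23 : affSub ≤ norm23 := by
  refine aff_le ⟨addOne_mem, Subgroup.le_normalizer (Subgroup.mem_zpowers _)⟩ ⟨mulTwo_mem_G23, ?_⟩
  have hconj : mulTwo * addOne = addOne ^ 2 * mulTwo := by
    refine Equiv.ext fun p => ?_
    rcases p with _ | x
    · simp [pow_two, addOne_none, mulTwo_none]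
    · simp [pow_two, addOne_some, mulTwo_some]; ring
  have hmap : (Subgroup.zpowers addOne).map (MulAut.conj mulTwo).toMonoidHom =
      Subgroup.zpowers addOne := by
    refine Subgroup.eq_of_le_of_card_ge ?_
      (Subgroup.card_map_of_injective (MulAut.conj mulTwo).injective).ge
    rw [MonoidHom.map_zpowers, Subgroup.zpowers_le]
    show mulTwo * addOne * mulTwo⁻¹ ∈ _
    rw [hconj, mul_inv_cancel_right]
    exact pow_mem (Subgroup.mem_zpowers _) 2
  show mulTwo ∈ Subgroup.normalizer (Subgroup.zpowers addOne : Set (Equiv.Perm GolayPt))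
  rw [Subgroup.mem_normalizer_iff]
  intro x
  constructor
  · intro hx
    rw [← hmap]
    exact ⟨x, hx, rfl⟩
  · intro hx
    rw [← hmap] at hx
    obtain ⟨y, hy, hyx⟩ := hx
    rwa [← (MulAut.conj mulTwo).injective hyx]

theorem card_eleventh : Fintype.card {u : ZMod 23 // u ^ 11 = 1} = 11 := by decide +kernel

theorem card_norm23_le : Nat.card norm23 ≤ 253 := by
  have hall : ∀ g : norm23, ∃ p : {u : ZMod 23 // u ^ 11 = 1} × ZMod 23,
      ∀ x : ZMod 23, (g : Equiv.Perm GolayPt) (some x) = some (p.1.1 * x + p.2) := by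
    rintro ⟨g, hg⟩
    obtain ⟨u, b, hu, hall⟩ := addOne_normalizer hg.1
      ((Subgroup.mem_normalizer_iff.1 hg.2 addOne).1 (Subgroup.mem_zpowers _))
    exact ⟨(⟨u, hu⟩, b), hall⟩
  choose F hF using hall
  refine (Nat.card_le_card_of_injective F fun g h e => ?_).trans ?_
  · refine Subtype.ext (Equiv.ext fun p => ?_)
    rcases p with _ | x
    · rw [g.2.1.2 none (by simp), h.2.1.2 none (by simp)]
    · rw [hF g x, hF h x, e]
  · rw [Nat.card_prod, Nat.card_eq_fintype_card, Nat.card_eq_fintype_card, ZMod.card, card_eleventh]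

theorem aff_eq_norm23 : affSub = norm23 ∧ Nat.card affSub = 253 := by
  have h23 : 23 ∣ Nat.card affSub := orderOf_addOne ▸ by
    rw [← Nat.card_zpowers]
    exact Subgroup.card_dvd_of_le (Subgroup.zpowers_le.2 addOne_mem_aff)
  have h11 : 11 ∣ Nat.card affSub := orderOf_mulTwo ▸ by
    rw [← Nat.card_zpowers]
    exact Subgroup.card_dvd_of_le (Subgroup.zpowers_le.2 mulTwo_mem_aff)
  have h253 : 253 ∣ Nat.card affSub := Nat.Coprime.mul_dvd_of_dvd_of_dvd (by norm_num : Nat.Coprime 23 11) h23 h11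
  have hle := Nat.le_of_dvd Nat.card_pos h253
  have hle' := Subgroup.card_le_of_le aff_le_norm23
  have := card_norm23_le
  exact ⟨Subgroup.eq_of_le_of_card_ge aff_le_norm23 (by omega), by omega⟩

theorem aff_le_G23 : affSub ≤ G23 := aff_le_norm23.trans inf_le_left

theorem divisor_cases : ∀ d ∈ Nat.divisors 40320, d % 23 = 1 →
    d ∈ [1, 24, 70, 576, 1680, 40320] := by
  decide +kernel

/-- The point stabiliser is maximal. -/
theorem eq_or_eq_G23 {K : Subgroup (Equiv.Perm GolayPt)} (h1 : affSub ≤ K) (h2 : K ≤ G23) :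
    K = affSub ∨ K = G23 := by
  have hK : Nat.card K ∣ 10200960 := card_fix1 ▸ Subgroup.card_dvd_of_le h2
  obtain ⟨d, hd⟩ : 253 ∣ Nat.card K := aff_eq_norm23.2 ▸ Subgroup.card_dvd_of_le h1
  have hd' : d ∣ 40320 := by
    rw [hd, show 10200960 = 253 * 40320 by norm_num] at hK
    exact Nat.dvd_of_mul_dvd_mul_left (by norm_num) hK
  haveI : Fact (Nat.Prime 23) := ⟨by norm_num⟩
  haveI : Fact (Nat.Prime 11) := ⟨by norm_num⟩
  obtain ⟨n, m, hn, hnm, -, -, hm⟩ := exists_count (K := K) (N := affSub) (h1 addOne_mem_aff)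
    orderOf_addOne (fun h => absurd (h.trans hK) (by norm_num)) (fun g hg hgn => by
      rw [aff_eq_norm23.1]
      refine ⟨h2 hg, ?_⟩
      have hmap : (Subgroup.zpowers addOne).map (MulAut.conj g).toMonoidHom =
          Subgroup.zpowers addOne := by
        refine Subgroup.eq_of_le_of_card_ge ?_
          (Subgroup.card_map_of_injective (MulAut.conj g).injective).ge
        rw [MonoidHom.map_zpowers, Subgroup.zpowers_le]
        exact hgn
      show g ∈ Subgroup.normalizer (Subgroup.zpowers addOne : Set (Equiv.Perm GolayPt))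
      rw [Subgroup.mem_normalizer_iff]
      intro x
      constructor
      · intro hx
        rw [← hmap]
        exact ⟨x, hx, rfl⟩
      · intro hx
        rw [← hmap] at hx
        obtain ⟨y, hy, hyx⟩ := hx
        rwa [← (MulAut.conj g).injective hyx])
  have hm' := hm (fun g hg => (Subgroup.mem_normalizer_iff.1 (aff_le_norm23 hg).2 addOne).1
    (Subgroup.mem_zpowers _)) h1
  rw [aff_eq_norm23.2] at hm'
  subst hm'
  have hnd : n = d := Nat.eq_of_mul_eq_mul_right (show 0 < 253 by norm_num)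
    (hnm.symm.trans (hd.trans (Nat.mul_comm 253 d)))
  subst hnd
  -- the stabiliser of zero
  let K0 := fixPts K [some 0]
  have hcard : Nat.card K = 23 * Nat.card K0 := by
    have h := card_fixPts_step (H := K) (l := []) (b := some 0)
      (Δ := (Finset.univ : Finset GolayPt).erase none)
      (fun g hg => Finset.mem_erase.2 ⟨fun e => absurd
        (g.injective (e.trans ((h2 hg.1).2 none (by simp)).symm)) (by simp), Finset.mem_univ _⟩)
      (fun p hp => by
        rcases p with _ | x
        · simp at hp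
        · exact ⟨addOne ^ x.val, ⟨pow_mem (h1 addOne_mem_aff) _, by simp⟩,
            by rw [addOne_pow, zero_add, ZMod.natCast_zmod_val]⟩)
    rw [fixPts_nil, Finset.card_erase_of_mem (Finset.mem_univ _), Finset.card_univ] at h
    exact h.trans (by rw [show Fintype.card GolayPt = 24 by decide])
  have hK0 : Nat.card K0 = 11 * n := by omega
  have hK0le : K0 ≤ G22 := fun g hg => ⟨(h2 hg.1).1, by
    simp only [List.forall_mem_cons, List.not_mem_nil, IsEmpty.forall_iff, implies_true, and_true]
    exact ⟨hg.2 _ (by simp), (h2 hg.1).2 _ (by simp)⟩⟩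
  have hK0d : Nat.card K0 ∣ 443520 := card_fix2 ▸ Subgroup.card_dvd_of_le hK0le
  have hmem : mulTwo ∈ K0 := ⟨h1 mulTwo_mem_aff, fun x hx => by
    rw [List.mem_singleton] at hx; subst hx
    exact (mulTwo_some 0).trans (by simp)⟩
  obtain ⟨n', m', hn', hnm', hm', -, -⟩ := exists_count (K := K0) (N := norm11) hmem orderOf_mulTwo
    (fun h => absurd (h.trans hK0d) (by norm_num)) (fun g hg hgn => mem_norm11 (hK0le hg) hgn)
  rw [card_norm11] at hm'
  rw [hK0] at hnm'
  have hmcase : m' ∈ [1, 5, 11, 55] :=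
    (by decide +kernel : ∀ x ∈ Nat.divisors 55, x ∈ [1, 5, 11, 55]) m'
      (Nat.mem_divisors.2 ⟨hm', by norm_num⟩)
  have hcases := divisor_cases n (Nat.mem_divisors.2 ⟨hd', by norm_num⟩) hn
  simp only [List.mem_cons, List.not_mem_nil, or_false] at hcases hmcase
  rcases hcases with rfl | rfl | rfl | rfl | rfl | rfl
  · exact Or.inl (Subgroup.eq_of_le_of_card_ge h1 (by rw [hd, aff_eq_norm23.2])).symm
  iterate 4 (rcases hmcase with rfl | rfl | rfl | rfl <;> omega)
  · exact Or.inr (Subgroup.eq_of_le_of_card_ge h2 (by rw [hd, card_fix1]))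

/-- The fractional linear group is maximal. -/
theorem eq_or_eq_M24 {K : Subgroup (Equiv.Perm GolayPt)} (h1 : pslSub ≤ K) (h2 : K ≤ M24) :
    K = pslSub ∨ K = M24 := by
  have h := card_fixPts_step (H := K) (l := []) (b := none) (Δ := (Finset.univ : Finset GolayPt))
    (fun g _ => Finset.mem_univ _) (fun p _ => by
      rcases p with _ | x
      · exact ⟨1, one_mem _, rfl⟩
      · refine ⟨addOne ^ x.val * Cfsg.projInv, ⟨mul_mem (pow_mem (h1 (aff_le_psl addOne_mem_aff)) _)
          (h1 (Subgroup.subset_closure (Or.inl (Or.inr rfl)))), by simp⟩, ?_⟩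
        rw [Equiv.Perm.mul_apply, show Cfsg.projInv none = some 0 from rfl, addOne_pow, zero_add,
          ZMod.natCast_zmod_val])
  rw [fixPts_nil, Finset.card_univ, show Fintype.card GolayPt = 24 by decide] at h
  have hlow : affSub ≤ fixPts K [none] := fun g hg =>
    ⟨h1 (aff_le_psl hg), (aff_le_G23 hg).2⟩
  have hup : fixPts K [none] ≤ G23 := fun g hg => ⟨h2 hg.1, hg.2⟩
  rcases eq_or_eq_G23 hlow hup with e | e
  · rw [e, aff_eq_norm23.2] at h
    exact Or.inl (Subgroup.eq_of_le_of_card_ge h1 (by rw [card_pslSub, h])).symm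
  · rw [e, card_fix1] at h
    exact Or.inr (Subgroup.eq_of_le_of_card_ge h2 (by rw [card_M24, h]))

theorem isCoatom_comap {G H : Type*} [Group G] [Group H] [Finite G] {φ : H →* G}
    (hφ : Function.Injective φ) {F : Subgroup G} (hF : F ≤ φ.range) (hne : F ≠ φ.range)
    (hmax : ∀ K, F ≤ K → K ≤ φ.range → K = F ∨ K = φ.range) : IsCoatom (F.comap φ) := by
  refine ⟨fun h => hne (le_antisymm hF ?_), fun K hK => ?_⟩
  · rintro _ ⟨x, rfl⟩
    exact (h.ge : ⊤ ≤ F.comap φ) (Subgroup.mem_top x)
  · have h1 : F ≤ K.map φ := fun g hg => by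
      obtain ⟨x, rfl⟩ := hF hg
      exact ⟨x, hK.le hg, rfl⟩
    rcases hmax _ h1 (Subgroup.map_le_range _ _) with e | e
    · refine absurd ?_ hK.ne'
      rw [← e, Subgroup.comap_map_eq_self_of_injective hφ]
    · rw [eq_top_iff]
      intro x _
      obtain ⟨y, hy, hyx⟩ := e.ge ⟨x, rfl⟩
      rwa [← hφ hyx]

end CfsgLib.M24Cert
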