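import Cfsg.Agent.Lib.M24Cert.QuartetStab

/-!
The orbits of a quartet stabiliser on the quartets of its dodecad.
-/

set_option autoImplicit false

namespace CfsgLib.M24Cert

open Cfsg CfsgLib.Golay
open scoped Pointwise

theorem setsOf_checks {l : List ℕ} (h : quartetCheck l = true) :
    l.Nodup ∧ ∀ t ∈ l, t < 2 ^ 24 := by
  simp only [quartetCheck, Bool.and_eq_true, decide_eq_true_eq, List.all_eq_true, Nat.blt_eq] at h
  exact ⟨h.1.1.1, fun t ht => (h.1.2 t ht).1.1⟩

theorem sum_setsOf {l : List ℕ} (h : quartetCheck l = true) (F : Finset GolayPt → ℕ) :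
    ∑ t ∈ setsOf l, F t = (l.map fun t => F (toSet t)).sum := by
  obtain ⟨hnd, hlt⟩ := setsOf_checks h
  rw [setsOf, List.sum_toFinset _ (hnd.map_on fun a ha b hb e => toSet_inj (hlt a ha) (hlt b hb) e),
    List.map_map]
  rfl

/-- The invariant separating the orbits. -/
noncomputable def inv4 (X : Finset (Finset GolayPt)) : ℕ :=
  ∑ t ∈ X, ∑ u ∈ qrt0, wt (t ∩ u).card

theorem inv4_smul {g : Equiv.Perm GolayPt} (hg : g • qrt0 = qrt0) (X : Finset (Finset GolayPt)) :
    inv4 (g • X) = inv4 X := by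
  rw [inv4, Finset.smul_finset_def, Finset.sum_image (fun a _ b _ e => MulAction.injective g e)]
  refine Finset.sum_congr rfl fun t _ => ?_
  conv_lhs => rw [← hg, Finset.smul_finset_def,
    Finset.sum_image (fun a _ b _ e => MulAction.injective g e)]
  exact Finset.sum_congr rfl fun u _ => by rw [← Finset.smul_finset_inter, Finset.card_smul_finset]

theorem inv4_setsOf {l : List ℕ} (h : quartetCheck l = true) : inv4 (setsOf l) = invList l := by
  rw [inv4, sum_setsOf h, invList]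
  refine congrArg List.sum (List.map_congr_left fun t _ => ?_)
  rw [show qrt0 = setsOf quartet0 from rfl, sum_setsOf quartet_checks.1]
  refine congrArg List.sum (List.map_congr_left fun u _ => ?_)
  rw [← toSet_and, card_toSet, pc24_eq]

theorem orbit_subset {d : Finset GolayPt} {Q X : Finset (Finset GolayPt)} (hX : X ∈ quartets d) :
    MulAction.orbit (qStab d Q) X ⊆ quartets d := by
  rintro _ ⟨⟨⟨g, hg⟩, hgs⟩, rfl⟩
  have h : g • d = d := (mem_qStab.1 hgs).1
  show g • X ∈ quartets d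
  rw [← h]
  exact smul_mem_quartets hg hX

theorem orbit_inv4 {X Y : Finset (Finset GolayPt)} (h : Y ∈ MulAction.orbit (qStab dod12 qrt0) X) :
    inv4 Y = inv4 X := by
  obtain ⟨⟨⟨g, hg⟩, hgs⟩, rfl⟩ := h
  exact inv4_smul (mem_qStab.1 hgs).2 X

theorem orbit_lower {l : List ℕ} {ms : List (ℕ × ℕ)} (hl : quartetCheck l = true)
    (hm : movesCheck l ms = true) :
    ms.length ≤ (MulAction.orbit (qStab dod12 qrt0) (setsOf l)).ncard := by
  simp only [movesCheck, Bool.and_eq_true, decide_eq_true_eq, List.all_eq_true, Nat.blt_eq] at hm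
  obtain ⟨hall, hnd⟩ := hm
  let key : Finset (Finset GolayPt) → ℕ := fun X => ∑ t ∈ X, ofSet t ^ 2
  have hkey : ∀ m ∈ ms, ∃ Y ∈ MulAction.orbit (qStab dod12 qrt0) (setsOf l), key Y = keyOf l m := by
    intro m hmm
    obtain ⟨⟨⟨hi, h81⟩, h9⟩, hlt⟩ := hall m hmm
    have hg : goodQ (rcode m.1) = true := by
      have := allLt_spec good_checks.1 _ h81
      rwa [hi, Bool.not_true, Bool.false_or] at this
    let a : qStab dod12 qrt0 := el (rcode m.1) * nEl m.2
    refine ⟨a • setsOf l, MulAction.mem_orbit _ _, ?_⟩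
    show ∑ t ∈ ((a : M24) : Equiv.Perm GolayPt) • setsOf l, ofSet t ^ 2 = _
    rw [Finset.smul_finset_def, Finset.sum_image (fun x _ y _ e => MulAction.injective _ e),
      sum_setsOf hl, keyOf]
    refine congrArg List.sum (List.map_congr_left fun t ht => ?_)
    show ofSet (((((el (rcode m.1) : qStab dod12 qrt0) : M24) : Equiv.Perm GolayPt) *
      (((nEl m.2 : qStab dod12 qrt0) : M24) : Equiv.Perm GolayPt)) • toSet t) ^ 2 = _
    rw [mul_smul, ← toSet_push (isPermOf_nEl h9 : IsPermOf _ _), ← toSet_push (isPermOf_el hg),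
      ofSet_toSet (hlt t ht)]
  rw [← List.length_map (keyOf l), ← List.toFinset_card_of_nodup hnd, ← Set.ncard_coe_finset]
  refine le_trans (Set.ncard_le_ncard (t := key '' MulAction.orbit (qStab dod12 qrt0) (setsOf l))
    (fun k hk => ?_) (Set.toFinite _)) (Set.ncard_image_le (Set.toFinite _))
  rw [List.coe_toFinset] at hk
  obtain ⟨m, hmm, rfl⟩ := List.mem_map.1 hk
  obtain ⟨Y, hY, hYk⟩ := hkey m hmm
  exact ⟨Y, hY, hYk⟩

theorem std_orbits : ∃ X₁ ∈ quartets dod12, ∃ X₂ ∈ quartets dod12, ∃ X₃ ∈ quartets dod12,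
    ∃ X₄ ∈ quartets dod12,
    (MulAction.orbit (qStab dod12 qrt0) X₁).ncard = 12 ∧
    (MulAction.orbit (qStab dod12 qrt0) X₂).ncard = 27 ∧
    (MulAction.orbit (qStab dod12 qrt0) X₃).ncard = 72 ∧
    (MulAction.orbit (qStab dod12 qrt0) X₄).ncard = 108 ∧
    quartets dod12 = {qrt0} ∪ MulAction.orbit (qStab dod12 qrt0) X₁ ∪
      MulAction.orbit (qStab dod12 qrt0) X₂ ∪ MulAction.orbit (qStab dod12 qrt0) X₃ ∪
      MulAction.orbit (qStab dod12 qrt0) X₄ := by
  obtain ⟨q0, q1, q2, q3, q4⟩ := quartet_checks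
  obtain ⟨m1, l1, m2, l2, m3, l3, m4, l4⟩ := moves_checks
  have hv := inv_checks
  simp only [List.nodup_cons, List.mem_cons, List.not_mem_nil, or_false, not_or, List.nodup_nil,
    and_true, not_false_eq_true] at hv
  obtain ⟨⟨v01, v02, v03, v04⟩, ⟨v12, v13, v14⟩, ⟨v23, v24⟩, v34⟩ := hv
  refine ⟨_, mem_quartets_of_check q1, _, mem_quartets_of_check q2, _, mem_quartets_of_check q3,
    _, mem_quartets_of_check q4, ?_⟩
  set O₁ := MulAction.orbit (qStab dod12 qrt0) (setsOf quartetOrb12) with hO₁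
  set O₂ := MulAction.orbit (qStab dod12 qrt0) (setsOf quartetOrb27) with hO₂
  set O₃ := MulAction.orbit (qStab dod12 qrt0) (setsOf quartetOrb72) with hO₃
  set O₄ := MulAction.orbit (qStab dod12 qrt0) (setsOf quartetOrb108) with hO₄
  set U := {qrt0} ∪ O₁ ∪ O₂ ∪ O₃ ∪ O₄ with hU
  have e0 : inv4 qrt0 = invList quartet0 := inv4_setsOf q0
  have e1 : ∀ Y ∈ O₁, inv4 Y = invList quartetOrb12 := fun Y h =>
    (orbit_inv4 h).trans (inv4_setsOf q1)
  have e2 : ∀ Y ∈ O₂, inv4 Y = invList quartetOrb27 := fun Y h =>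
    (orbit_inv4 h).trans (inv4_setsOf q2)
  have e3 : ∀ Y ∈ O₃, inv4 Y = invList quartetOrb72 := fun Y h =>
    (orbit_inv4 h).trans (inv4_setsOf q3)
  have e4 : ∀ Y ∈ O₄, inv4 Y = invList quartetOrb108 := fun Y h =>
    (orbit_inv4 h).trans (inv4_setsOf q4)
  have dis : ∀ {A B : Set (Finset (Finset GolayPt))} {a b : ℕ}, (∀ Y ∈ A, inv4 Y = a) →
      (∀ Y ∈ B, inv4 Y = b) → a ≠ b → Disjoint A B := fun ha hb hab =>
    Set.disjoint_left.2 fun Y hYA hYB => hab ((ha Y hYA).symm.trans (hb Y hYB))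
  have e0' : ∀ Y ∈ ({qrt0} : Set (Finset (Finset GolayPt))), inv4 Y = invList quartet0 := by
    rintro Y rfl; exact e0
  have hsub : U ⊆ quartets dod12 :=
    Set.union_subset (Set.union_subset (Set.union_subset (Set.union_subset
      (Set.singleton_subset_iff.2 qrt0_mem) (orbit_subset (mem_quartets_of_check q1)))
      (orbit_subset (mem_quartets_of_check q2))) (orbit_subset (mem_quartets_of_check q3)))
      (orbit_subset (mem_quartets_of_check q4))
  have hcard : U.ncard = 1 + O₁.ncard + O₂.ncard + O₃.ncard + O₄.ncard := by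
    rw [hU, Set.ncard_union_eq, Set.ncard_union_eq, Set.ncard_union_eq, Set.ncard_union_eq,
      Set.ncard_singleton]
    · exact dis e0' e1 v01
    · exact Set.disjoint_union_left.2 ⟨dis e0' e2 v02, dis e1 e2 v12⟩
    · exact Set.disjoint_union_left.2 ⟨Set.disjoint_union_left.2
        ⟨dis e0' e3 v03, dis e1 e3 v13⟩, dis e2 e3 v23⟩
    · exact Set.disjoint_union_left.2 ⟨Set.disjoint_union_left.2 ⟨Set.disjoint_union_left.2
        ⟨dis e0' e4 v04, dis e1 e4 v14⟩, dis e2 e4 v24⟩, dis e3 e4 v34⟩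
  have hle := Set.ncard_le_ncard hsub (Set.toFinite _)
  rw [ncard_quartets dod12_mem, hcard] at hle
  have b1 := orbit_lower q1 m1
  have b2 := orbit_lower q2 m2
  have b3 := orbit_lower q3 m3
  have b4 := orbit_lower q4 m4
  rw [l1] at b1; rw [l2] at b2; rw [l3] at b3; rw [l4] at b4
  rw [← hO₁] at b1; rw [← hO₂] at b2; rw [← hO₃] at b3; rw [← hO₄] at b4
  refine ⟨by omega, by omega, by omega, by omega, (Set.eq_of_subset_of_ncard_le hsub ?_
    (Set.toFinite _)).symm⟩
  rw [ncard_quartets dod12_mem, hcard]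
  omega

end CfsgLib.M24Cert
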