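import Cfsg.Agent.Lib.M24Cert.Basic
import Cfsg.Agent.Lib.M24Cert.DataPoints
import Cfsg.Agent.Lib.GolayDesign.Octads

/-!
Moving a point–octad configuration to a standard one.
-/

set_option autoImplicit false

namespace CfsgLib.M24Cert

open Cfsg CfsgLib.Golay
open scoped Pointwise

theorem bit_none : bit (none : GolayPt) = 23 := rfl

theorem bit_some_zero : bit (some 0 : GolayPt) = 0 := rfl

theorem bit_some_four : bit (some 4 : GolayPt) = 4 := rfl

theorem octad0_mems :
    (none : GolayPt) ∈ octad0 ∧ (some 0 : GolayPt) ∈ octad0 ∧ (some 4 : GolayPt) ∉ octad0 := by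
  unfold octad0; decide +kernel

theorem oct0Out_cover :
    pointCover (fun j => !(8536111 : ℕ).testBit j) (targets oct0OutRoot oct0OutForest) = true := by
  decide +kernel

theorem oct0InOut_cover :
    pointCover (fun j => !(8536111 : ℕ).testBit j) (targets oct0InOutRoot oct0InOutForest) = true := by
  decide +kernel

theorem out_cond {p : GolayPt} (hp : p ∉ octad0) : (!(8536111 : ℕ).testBit (bit p)) = true := by
  rw [octad0, mem_toSet] at hp
  simpa using hp

theorem exists_std_in {o : Finset GolayPt} (ho : o ∈ octads) {x : GolayPt} (hx : x ∈ o) :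
    ∃ g ∈ M24, g • octad0 = o ∧ g none = x := by
  obtain ⟨g, hg, hgo, hgm⟩ := exists_map_octad_points ho [x] (by simp) (by simp) (by simpa using hx)
  exact ⟨g, hg, hgo, by simpa [base5] using hgm⟩

theorem exists_std_in_in {o : Finset GolayPt} (ho : o ∈ octads) {p q : GolayPt} (hpq : p ≠ q)
    (hp : p ∈ o) (hq : q ∈ o) : ∃ g ∈ M24, g • octad0 = o ∧ g none = p ∧ g (some 0) = q := by
  obtain ⟨g, hg, hgo, hgm⟩ := exists_map_octad_points ho [p, q] (by simp [hpq]) (by simp)
    (by simp [hp, hq])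
  simp [base5] at hgm
  exact ⟨g, hg, hgo, hgm.1, hgm.2⟩

theorem exists_std_out {o : Finset GolayPt} (ho : o ∈ octads) {x : GolayPt} (hx : x ∉ o) :
    ∃ g ∈ M24, g • octad0 = o ∧ g (some 4) = x := by
  obtain ⟨g, hg, hgo⟩ := exists_smul_octad octad0_mem ho
  have hx' : g⁻¹ x ∉ octad0 := fun h => hx (by
    rw [← hgo]
    simpa using (apply_mem_smul (g := g)).2 h)
  obtain ⟨h, hh, hhx⟩ := exists_map_point oct0Out_orbit oct0Out_cover (out_cond octad0_mems.2.2)
    (out_cond hx')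
  refine ⟨g * h, mul_mem hg hh.1, ?_, ?_⟩
  · rw [mul_smul, show h • octad0 = octad0 from hh.2 _ (by simp), hgo]
  · rw [Equiv.Perm.mul_apply, hhx]; simp

theorem exists_std_in_out {o : Finset GolayPt} (ho : o ∈ octads) {p q : GolayPt} (hp : p ∈ o)
    (hq : q ∉ o) : ∃ g ∈ M24, g • octad0 = o ∧ g none = p ∧ g (some 4) = q := by
  obtain ⟨g, hg, hgo, hgp⟩ := exists_std_in ho hp
  have hq' : g⁻¹ q ∉ octad0 := fun h => hq (by
    rw [← hgo]
    simpa using (apply_mem_smul (g := g)).2 h)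
  obtain ⟨h, hh, hhx⟩ := exists_map_point oct0InOut_orbit oct0InOut_cover
    (out_cond octad0_mems.2.2) (out_cond hq')
  refine ⟨g * h, mul_mem hg hh.1, ?_, ?_, ?_⟩
  · rw [mul_smul, show h • octad0 = octad0 from hh.2 _ (by simp), hgo]
  · rw [Equiv.Perm.mul_apply, apply_eq_of_fix hh (p := none) (by rw [bit_none]; simp), hgp]
  · rw [Equiv.Perm.mul_apply, hhx]; simp

/-- Pulling an octad back along `g` with `g • octad0 = o`. -/
theorem inter_pull {g : Equiv.Perm GolayPt} {o s : Finset GolayPt} (hgo : g • octad0 = o) :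
    (octad0 ∩ g⁻¹ • s).card = (o ∩ s).card := by
  rw [← card_smul_inter g, hgo, smul_inv_smul]

theorem inv_apply_mem {g : Equiv.Perm GolayPt} {a b : GolayPt} {s : Finset GolayPt} (h : g a = b) :
    a ∈ g⁻¹ • s ↔ b ∈ s := by
  rw [Finset.mem_inv_smul_finset_iff, Equiv.Perm.smul_def, h]

/-- Conjugating a stabiliser element back to the given configuration. -/
theorem conj_props {g h : Equiv.Perm GolayPt} {o o' o'' : Finset GolayPt}
    (hgo : g • octad0 = o) (hh0 : h • octad0 = octad0) (hh : h • (g⁻¹ • o') = g⁻¹ • o'') :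
    (g * h * g⁻¹) • o = o ∧ (g * h * g⁻¹) • o' = o'' := by
  constructor
  · rw [mul_smul, mul_smul, ← hgo, inv_smul_smul, hh0]
  · rw [mul_smul, mul_smul, hh, smul_inv_smul]

theorem conj_apply {g h : Equiv.Perm GolayPt} {a b : GolayPt} (hga : g a = b) (hha : h a = a) :
    (g * h * g⁻¹) b = b := by
  simp [← hga, hha]

theorem eq_of_card_inter_eight {o o' : Finset GolayPt} (ho : o ∈ octads) (ho' : o' ∈ octads)
    (h : (o ∩ o').card = 8) : o = o' :=
  octad_eq_of_five ho ho' (by omega)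

theorem inter_cases {o o' : Finset GolayPt} (ho : o ∈ octads) (ho' : o' ∈ octads) :
    (o ∩ o').card = 0 ∨ (o ∩ o').card = 2 ∨ (o ∩ o').card = 4 ∨ (o ∩ o').card = 8 := by
  by_cases h : o = o'
  · subst h; simp [ho.2]
  · rcases GolayDesign.octad_inter_card ho ho' h with h | h | h <;> simp [h]

theorem inter_ne_zero {o o' : Finset GolayPt} {x : GolayPt} (hx : x ∈ o) (hx' : x ∈ o') :
    (o ∩ o').card ≠ 0 :=
  Finset.card_ne_zero.2 ⟨x, Finset.mem_inter.2 ⟨hx, hx'⟩⟩

theorem card_octad0_inter (n : ℕ) : (octad0 ∩ toSet n).card = pc 24 (n &&& 8536111) := by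
  rw [octad0, ← toSet_and, card_toSet, Nat.and_comm]

/-- A single orbit at the standard configuration gives transitivity at the given one. -/
theorem orbit_conj {k : ℕ} {q : ℕ → Bool} {fixed : List ℕ} {gens : List (ℕ × ℕ)} {root K : ℕ}
    {forest : List (ℕ × ℕ × ℕ)} (h : orbitCheck fixed gens root forest = true)
    (hc : coverCheck (fun n => Nat.beq (pc24 n) k && q n) (targets root forest) K = true)
    {P : Finset GolayPt → Prop} (hq : ∀ n < 2 ^ 24, P (toSet n) → q n = true)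
    {g : Equiv.Perm GolayPt} (hg : g ∈ M24) {m : ℕ} (hm : m ∈ fixed) {o s s' : Finset GolayPt}
    (hgo : g • toSet m = o)
    (hs : s ∈ wordsOfWeight (golayCode : Set (GolayPt → ZMod 2)) k)
    (hs' : s' ∈ wordsOfWeight (golayCode : Set (GolayPt → ZMod 2)) k)
    (hP : P (g⁻¹ • s)) (hP' : P (g⁻¹ • s')) :
    ∃ h ∈ M24, h • o = o ∧ h • s = s' ∧
      ∀ a : GolayPt, 2 ^ bit a ∈ fixed → h (g a) = g a := by
  obtain ⟨h, hh, hhs⟩ := orbit_words h hc hq ((smul_mem_wordsOfWeight (inv_mem hg)).2 hs)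
    ((smul_mem_wordsOfWeight (inv_mem hg)).2 hs') hP hP'
  obtain ⟨c1, c2⟩ : (g * h * g⁻¹) • o = o ∧ (g * h * g⁻¹) • s = s' := by
    constructor
    · rw [mul_smul, mul_smul, ← hgo, inv_smul_smul, hh.2 _ hm]
    · rw [mul_smul, mul_smul, hhs, smul_inv_smul]
  exact ⟨g * h * g⁻¹, mul_mem (mul_mem hg hh.1) (inv_mem hg), c1, c2,
    fun a ha => conj_apply rfl (apply_eq_of_fix hh ha)⟩

theorem mem_toSet_none {n : ℕ} : (none : GolayPt) ∈ toSet n ↔ n.testBit 23 = true := by
  rw [mem_toSet, bit_none]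

theorem mem_toSet_zero {n : ℕ} : (some 0 : GolayPt) ∈ toSet n ↔ n.testBit 0 = true := by
  rw [mem_toSet, bit_some_zero]

theorem mem_toSet_four {n : ℕ} : (some 4 : GolayPt) ∈ toSet n ↔ n.testBit 4 = true := by
  rw [mem_toSet, bit_some_four]

end CfsgLib.M24Cert
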