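import Cfsg.Agent.Lib.M24Cert.M12Sub

/-!
The symmetric group of degree five maps onto the stabiliser of a point and an outer pair.
-/

set_option autoImplicit false

namespace CfsgLib.M24Cert

open Cfsg CfsgLib.Golay
open scoped Pointwise

/-- The base-5 code of a permutation. -/
def permKey (g : Equiv.Perm (Fin 5)) : ℕ :=
  (g 0).val + 5 * (g 1).val + 25 * (g 2).val + 125 * (g 3).val + 625 * (g 4).val

/-- The table entry of a permutation. -/
noncomputable def symCode (g : Equiv.Perm (Fin 5)) : ℕ :=
  ((symFive.find? fun e => Nat.beq e.1 (permKey g)).getD (0, 0)).2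

/-- The generators. -/
def symGens : List (Equiv.Perm (Fin 5)) := [finRotate 5, Equiv.swap 0 1]

theorem sym_check : ∀ g : Equiv.Perm (Fin 5),
    (good12 [some 0] (symCode g) && Nat.beq (push (symCode g) 8388640) 8388640 &&
      (decide (g = 1) == M24Calc.eqF (app (symCode g)) id) &&
      symGens.all fun s => M24Calc.eqF (app (symCode (g * s)))
        (fun j => app (symCode g) (app (symCode s) j))) = true := by
  decide +kernel

theorem swapOut_check : good12 [some 0] swapOut = true ∧ app swapOut 23 = 5 ∧ app swapOut 5 = 23 := by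
  decide +kernel

/-- The stabiliser of the base point and the outer pair. -/
noncomputable def pairStab : Subgroup (Equiv.Perm GolayPt) :=
  fixPts Spor.M12 [some 0] ⊓
    MulAction.stabilizer (Equiv.Perm GolayPt) ({none, some 5} : Finset GolayPt)

/-- The map. -/
noncomputable def symMap (g : Equiv.Perm (Fin 5)) : Equiv.Perm GolayPt :=
  M24Calc.ofCode (symCode g)

theorem symMap_spec (g : Equiv.Perm (Fin 5)) :
    symMap g ∈ pairStab ∧ M24Calc.IsFun (symMap g) (app (symCode g)) ∧
      (symMap g = 1 ↔ g = 1) ∧ ∀ s ∈ symGens, symMap (g * s) = symMap g * symMap s := by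
  have hgood : ∀ h, good12 [some 0] (symCode h) = true := fun h => by
    have := sym_check h
    simp only [Bool.and_eq_true] at this
    exact this.1.1.1
  have h := sym_check g
  simp only [Bool.and_eq_true, Nat.beq_eq, beq_iff_eq, List.all_eq_true] at h
  obtain ⟨⟨⟨-, hp⟩, hone⟩, hmul⟩ := h
  have hf : M24Calc.IsFun (symMap g) (app (symCode g)) := isFun_of_good12 (hgood g)
  refine ⟨⟨mem_of_good12 (hgood g), ?_⟩, hf, ?_, fun s hs => ?_⟩
  · have hset : ({none, some 5} : Finset GolayPt) = toSet 8388640 := by decide +kernel
    show symMap g • ({none, some 5} : Finset GolayPt) = _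
    rw [hset, ← toSet_push (hf : IsPermOf _ _), hp]
  · constructor
    · intro e
      rw [M24Calc.eqF_of_eq hf M24Calc.IsFun.one e] at hone
      exact of_decide_eq_true hone
    · intro e
      refine M24Calc.eq_of_eqF hf M24Calc.IsFun.one ?_
      rw [← hone]; exact decide_eq_true e
  · exact M24Calc.eq_of_eqF (isFun_of_good12 (hgood _)) (hf.mul (isFun_of_good12 (hgood s)))
      (hmul s hs)

theorem symGens_closure : Subgroup.closure {s | s ∈ symGens} = ⊤ := by
  have h := Equiv.Perm.closure_cycle_adjacent_swap (isCycle_finRotate (n := 3))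
    (support_finRotate (n := 3)) (0 : Fin 5)
  rw [show finRotate 5 (0 : Fin 5) = 1 by decide] at h
  rw [← h]
  congr 1
  ext s
  simp [symGens]

/-- The homomorphism. -/
noncomputable def symHom : Equiv.Perm (Fin 5) →* Equiv.Perm GolayPt :=
  have h1 : symMap 1 = 1 := (symMap_spec 1).2.2.1.2 rfl
  { toFun := symMap
    map_one' := h1
    map_mul' := map_mul_of_gens symGens_closure h1 fun g s hs => (symMap_spec g).2.2.2 s hs }

theorem card_pairStab_le : Nat.card pairStab ≤ 120 := by
  classical
  obtain ⟨hg, h23, h5⟩ := swapOut_check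
  set t := M24Calc.ofCode swapOut with ht
  have htm : t ∈ fixPts Spor.M12 [some 0] := mem_of_good12 hg
  have tn : t none = some 5 := bit_injective (by rw [← isFun_of_good12 hg]; exact h23)
  have t5 : t (some 5) = none := bit_injective (by rw [← isFun_of_good12 hg]; exact h5)
  have hmove : ∀ x : pairStab, ∃ b : Bool, (bif b then t else 1)⁻¹ * x.1 ∈
      fixPts Spor.M12 [some 5, none, some 0] := by
    rintro ⟨x, hx, hxs⟩
    have hxs' : x • ({none, some 5} : Finset GolayPt) = {none, some 5} := hxs
    have hn : x none ∈ ({none, some 5} : Finset GolayPt) := by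
      rw [← hxs']; exact Finset.smul_mem_smul_finset (by simp)
    have hm : x (some 5) ∈ ({none, some 5} : Finset GolayPt) := by
      rw [← hxs']; exact Finset.smul_mem_smul_finset (by simp)
    simp only [Finset.mem_insert, Finset.mem_singleton] at hn hm
    have hne : x none ≠ x (some 5) := x.injective.ne (by simp)
    have hx0 : x (some 0) = some 0 := hx.2 _ (List.mem_singleton_self _)
    rcases hn with hn | hn
    · refine ⟨false, ?_⟩
      have h' : x (some 5) = some 5 := hm.resolve_left fun h => hne (hn.trans h.symm)
      simp only [cond_false, inv_one, one_mul, mem_fixPts, List.forall_mem_cons]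
      exact ⟨hx.1, h', hn, hx0, by simp⟩
    · refine ⟨true, ?_⟩
      have h' : x (some 5) = none := hm.resolve_right fun h => hne (hn.trans h.symm)
      simp only [cond_true, mem_fixPts, List.forall_mem_cons, Equiv.Perm.mul_apply]
      refine ⟨mul_mem (inv_mem htm.1) hx.1, ?_, ?_, ?_, by simp⟩
      · rw [h', ← t5, perm_inv_apply]
      · rw [hn, ← tn, perm_inv_apply]
      · rw [hx0]
        conv_lhs => rw [← htm.2 _ (List.mem_singleton_self (some 0 : GolayPt))]
        exact perm_inv_apply _ _
  choose b hb using hmove
  let F : pairStab → Bool × fixPts Spor.M12 [some 5, none, some 0] := fun x => (b x, ⟨_, hb x⟩)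
  refine le_trans (Nat.card_le_card_of_injective F fun x y h => ?_) ?_
  · simp only [F, Prod.mk.injEq, Subtype.mk.injEq] at h
    rw [h.1] at h
    exact Subtype.ext (mul_left_cancel h.2)
  · rw [Nat.card_prod, card_fix11_two, Nat.card_eq_fintype_card, Fintype.card_bool]

/-- The pair stabiliser is a symmetric group of degree five. -/
theorem nonempty_symFive : Nonempty (↥pairStab ≃* Equiv.Perm (Fin 5)) := by
  have hinj : Function.Injective symHom :=
    (injective_iff_map_eq_one symHom).2 fun g hg => (symMap_spec g).2.2.1.1 hg
  have hle : symHom.range ≤ pairStab := by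
    rintro _ ⟨g, rfl⟩; exact (symMap_spec g).1
  have heq : symHom.range = pairStab := by
    refine Subgroup.eq_of_le_of_card_ge hle ?_
    rw [← Nat.card_congr (MonoidHom.ofInjective hinj).toEquiv, Nat.card_perm, Nat.card_fin]
    exact card_pairStab_le.trans (by decide)
  exact ⟨((MonoidHom.ofInjective hinj).trans (MulEquiv.subgroupCongr heq)).symm⟩

end CfsgLib.M24Cert
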